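import Cfsg.Agent.Lib.Classical.TensorOrthFour.Line
import Cfsg.Agent.Lib.Classical.OrthTwoRank

set_option autoImplicit false
set_option linter.unusedSectionVars false
set_option linter.style.haveILetI false

/-!
Without central elements, all elements of the group are Kronecker products: two of the involutions attached to
anisotropic points of different square classes generate a dihedral group whose central involution forces this.
-/

namespace CfsgLib.Classical.TensorOrthFour

open Matrix CfsgLib.Classical.TensorMax CfsgLib.Orth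
open CfsgLib.Classical.TensorSymp (adj ten kc_mulVec kron_mulVec_ten ten_add_left ten_add_right ten_sub_left
  ten_sub_right ten_smul_left ten_smul_right)
open CfsgLib.Classical.TensorOrth (Gram rk)
open scoped MatrixGroups Kronecker

variable {F : Type*} [Field F] {α β : Type} [Fintype α] [DecidableEq α] [Fintype β] [DecidableEq β]

/-- The embedding of the second factor at a vector of the first. -/
def iota [Finite F] (o : α → F) : (β → F) →ₗ[F] (α × β → F) where
  toFun := ten o
  map_add' := ten_add_right o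
  map_smul' c y := ten_smul_right c o y

theorem iota_apply [Finite F] (o : α → F) (y : β → F) : iota o y = ten o y := rfl

theorem sign_mul {s t : F} (hs : s = 1 ∨ s = -1) (ht : t = 1 ∨ t = -1) : s * t = 1 ∨ s * t = -1 := by
  rcases hs with rfl | rfl <;> rcases ht with rfl | rfl <;> simp

theorem sign_sq {s : F} (hs : s = 1 ∨ s = -1) : s * s = 1 := by
  rcases hs with rfl | rfl <;> simp

namespace Hyp

variable [Finite F] {QA : QuadraticForm F (α → F)} {QB : QuadraticForm F (β → F)} {JA : Matrix α α F}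
  {JB : Matrix β β F} {Q : QuadraticForm F (α × β → F)} {M : Subgroup (Grp Q)} (H : Hyp QA QB JA JB Q M)
include H

theorem card_prod_eq : Fintype.card (α × β) = 12 := by rw [Fintype.card_prod, H.cardA, H.cardB]

/-- The fixed space of the involution at `c`. -/
theorem ec_fix {c : α → F} (hc : QA c ≠ 0) {e : Grp Q}
    (he : ∀ a y, ap e (ten a y) = ten ((QuadraticMap.polar ⇑QA c a / QA c) • c - a) y) :
    (∀ y, ap e (ten c y) = ten c y) ∧ (∀ o, QuadraticMap.polar ⇑QA c o = 0 → ∀ y, ap e (ten o y) = -ten o y) ∧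
      ∀ x, ap e x = x → ∃ y, x = ten c y := by
  have h1 : ∀ y, ap e (ten c y) = ten c y := fun y => by
    rw [he, b_self]
    congr 1
    match_scalars
    field_simp
    ring
  have h2 : ∀ o, QuadraticMap.polar ⇑QA c o = 0 → ∀ y, ap e (ten o y) = -ten o y := fun o ho y => by
    rw [he, ho, zero_div, zero_smul, zero_sub, ← neg_one_smul F o, ten_smul_left, neg_one_smul]
  refine ⟨h1, h2, fun x hx => ⟨(2 * QA c)⁻¹ • ctrA JA c x, ?_⟩⟩
  obtain ⟨b, d, ho⟩ := H.exists_ortho hc
  have e1 := H.expandO ho x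
  have e2 := congrArg (ap e) e1
  rw [hx, ap_add, ap_add, ap_smul, ap_smul, ap_smul, h1, h2 b ho.ab, h2 d ho.ac] at e2
  have := H.two
  rw [ten_smul_right]
  refine (smul_right_injective _ this) ?_
  linear_combination (norm := module) e1 + e2

theorem finrank_ec {c : α → F} (hc : QA c ≠ 0) {e : Grp Q}
    (he : ∀ a y, ap e (ten a y) = ten ((QuadraticMap.polar ⇑QA c a / QA c) • c - a) y) :
    Module.finrank F (eig (val e) 1) = 4 := by
  obtain ⟨h1, -, h3⟩ := H.ec_fix hc he
  have hinj : Function.Injective (iota (β := β) c) := fun y y' h => ten_cancel_left (H.aniso_ne hc) h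
  have hr : eig (val e) 1 = LinearMap.range (iota (β := β) c) := by
    refine le_antisymm (fun x hx => ?_) ?_
    · obtain ⟨y, hy⟩ := h3 x (by rw [mem_eig, one_smul] at hx; exact hx)
      exact ⟨y, hy.symm⟩
    · rintro _ ⟨y, rfl⟩
      rw [mem_eig, one_smul]
      exact h1 y
  rw [hr, LinearMap.finrank_range_of_inj hinj, H.dimB]

/-- The shape of an involution which is a Kronecker product fixing a point of the first factor. -/
theorem invol_data {k : Grp Q} (hk : k ∈ M) (hk2 : k * k = 1) (hT : Tens (val k)) {a : α → F} (ha : QA a ≠ 0)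
    (hab : ∀ y, ∃ y', ap k (ten a y) = ten a y') :
    ∃ (T : Matrix β β F) (c d : α → F) (εc εd : F), OrthA QA a c d ∧ (εc = 1 ∨ εc = -1) ∧ (εd = 1 ∨ εd = -1) ∧
      (∀ y, ap k (ten a y) = ten a (T *ᵥ y)) ∧ (∀ y, ap k (ten c y) = εc • ten c (T *ᵥ y)) ∧
      (∀ y, ap k (ten d y) = εd • ten d (T *ᵥ y)) ∧
      ((∃ τ : F, (τ = 1 ∨ τ = -1) ∧ T = τ • 1) ∨ ∀ s : F, (s = 1 ∨ s = -1) → Module.finrank F (eig T s) = 2) := by
  obtain ⟨S, T, μ, -, hST, hSa, hS, hTf⟩ := H.tens_split hT ha ha hab
  have hμ : μ = 1 := by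
    have := hS a a
    rw [hSa] at this
    exact (mul_eq_right₀ (by rw [b_self]; exact mul_ne_zero H.two ha)).1 this.symm
  have hap : ∀ u v, ap k (ten u v) = ten (S *ᵥ u) (T *ᵥ v) := fun u v => by
    show val k *ᵥ ten u v = _
    rw [hST, kron_mulVec_ten]
  have hkk : ∀ u v, ten (S *ᵥ (S *ᵥ u)) (T *ᵥ (T *ᵥ v)) = ten u v := fun u v => by
    rw [← hap, ← hap, ← ap_mul, hk2, ap_one]
  have hT2 : T * T = 1 := Matrix.ext_iff_mulVec.2 fun y => by
    rw [← Matrix.mulVec_mulVec, Matrix.one_mulVec]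
    refine ten_cancel_left (H.aniso_ne ha) ?_
    have := hkk a y
    rwa [hSa, hSa] at this
  obtain ⟨w, hw, hw0⟩ := H.exists_singB
  have hS2 : S * S = 1 := Matrix.ext_iff_mulVec.2 fun u => by
    rw [← Matrix.mulVec_mulVec, Matrix.one_mulVec]
    refine ten_cancel_right hw0 ?_
    have := hkk u w
    rwa [Matrix.mulVec_mulVec w T T, hT2, Matrix.one_mulVec] at this
  obtain ⟨c, d, εc, εd, ho, hεc, hεd, hc, hd⟩ := H.exists_eigenbasis
    (fun u v => by rw [hS, hμ, one_mul]) hS2 ha hSa
  refine ⟨T, c, d, εc, εd, ho, hεc, hεd, fun y => by rw [hap, hSa], fun y => by rw [hap, hc, ten_smul_left],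
    fun y => by rw [hap, hd, ten_smul_left], ?_⟩
  have hdet : T.det = 1 := by
    have h := CfsgLib.Orth.TwoRank.det_omega (H.le hk)
    rw [show ((k : GL (α × β) F)).1 = S ⊗ₖ T from hST, Matrix.det_kronecker, H.cardA, H.cardB] at h
    have s1 : S.det * S.det = 1 := by rw [← Matrix.det_mul, hS2, Matrix.det_one]
    have t1 : T.det * T.det = 1 := by rw [← Matrix.det_mul, hT2, Matrix.det_one]
    linear_combination h - T.det ^ 3 * (S.det * S.det + 1) * s1 - T.det * t1
  have hpar := det_invol H.two hT2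
  rw [hdet] at hpar
  have hsum := finrank_eig_add H.two hT2
  rw [H.cardB] at hsum
  have h11 : (-1 : F) ≠ 1 := fun e => H.two (by linear_combination -e)
  obtain ⟨n, hn⟩ : ∃ n, n = Module.finrank F (eig T (-1)) := ⟨_, rfl⟩
  rw [← hn] at hpar hsum
  have : n = 0 ∨ n = 2 ∨ n = 4 := by
    rcases (by omega : n = 0 ∨ n = 1 ∨ n = 2 ∨ n = 3 ∨ n = 4) with h | h | h | h | h
    · exact Or.inl h
    · exact absurd (by rw [h, pow_one] at hpar; exact hpar.symm) h11
    · exact Or.inr (Or.inl h)
    · exact absurd (by rw [h] at hpar; linear_combination -hpar) h11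
    · exact Or.inr (Or.inr h)
  rcases this with h | h | h
  · exact Or.inl ⟨1, Or.inl rfl, eq_of_eig (by rw [H.cardB]; omega)⟩
  · refine Or.inr fun s hs => ?_
    rcases hs with rfl | rfl <;> omega
  · exact Or.inl ⟨-1, Or.inr rfl, eq_of_eig (by rw [H.cardB, ← hn, h])⟩

/-- The dimensions of eigenspaces of such an involution. -/
theorem eig_bounds {k : Grp Q} {T : Matrix β β F} {a c d : α → F} {εc εd : F} (ho : OrthA QA a c d)
    (hεc : εc = 1 ∨ εc = -1) (hεd : εd = 1 ∨ εd = -1) (ka : ∀ y, ap k (ten a y) = ten a (T *ᵥ y))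
    (kc' : ∀ y, ap k (ten c y) = εc • ten c (T *ᵥ y)) (kd : ∀ y, ap k (ten d y) = εd • ten d (T *ᵥ y))
    (hd : ∀ s : F, (s = 1 ∨ s = -1) → Module.finrank F (eig T s) = 2) {s : F} (hs : s = 1 ∨ s = -1) :
    6 ≤ Module.finrank F (eig (val k) s) ∧
      ∀ e : Grp Q, (∀ y, ap e (ten c y) = -ten c y) → (∀ y, ap e (ten d y) = -ten d y) →
        4 ≤ Module.finrank F ↥(eig (val k) s ⊓ eig (val e) (-1)) := by
  have mem : ∀ (o : α → F) (ε : F), (ε = 1 ∨ ε = -1) → (∀ y, ap k (ten o y) = ε • ten o (T *ᵥ y)) →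
      ∀ y ∈ eig T (s * ε), ten o y ∈ eig (val k) s := by
    intro o ε hε hko y hy
    rw [mem_eig] at hy ⊢
    show ap k (ten o y) = _
    rw [hko, hy, ten_smul_right, smul_smul, mul_left_comm, sign_sq hε, mul_one]
  have hinj : ∀ u v r, ten a u + ten c v + ten d r = (0 : α × β → F) → u = 0 ∧ v = 0 ∧ r = 0 := by
    intro u v r h
    have k1 := congrArg (ctrA JA a) h
    have k2 := congrArg (ctrA JA c) h
    have k3 := congrArg (ctrA JA d) h
    simp only [ctrA_add, H.ctrA_ten, ho.ab, ho.ac, ho.bc, b_comm c a, b_comm d a, b_comm d c, b_self, zero_smul,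
      add_zero, zero_add] at k1 k2 k3
    have z0 : ∀ o, ctrA JA o (0 : α × β → F) = 0 := fun o => by
      funext k; exact dotProduct_zero _
    rw [z0, smul_eq_zero] at k1 k2 k3
    exact ⟨k1.resolve_left (mul_ne_zero H.two ho.qa), k2.resolve_left (mul_ne_zero H.two ho.qb),
      k3.resolve_left (mul_ne_zero H.two ho.qc)⟩
  refine ⟨?_, fun e hec hed => ?_⟩
  · let L : (eig T (s * 1) × eig T (s * εc) × eig T (s * εd)) →ₗ[F] eig (val k) s :=
      LinearMap.codRestrict _ (((iota a) ∘ₗ (eig T (s * 1)).subtype).coprod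
        (((iota c) ∘ₗ (eig T (s * εc)).subtype).coprod ((iota d) ∘ₗ (eig T (s * εd)).subtype)))
        fun x => Submodule.add_mem _ (mem a 1 (Or.inl rfl) (fun y => by rw [ka, one_smul]) _ x.1.2)
          (Submodule.add_mem _ (mem c εc hεc kc' _ x.2.1.2) (mem d εd hεd kd _ x.2.2.2))
    have hL : Function.Injective L := (injective_iff_map_eq_zero L).2 fun x hx => by
      have h : ten a (x.1 : β → F) + (ten c (x.2.1 : β → F) + ten d (x.2.2 : β → F)) = 0 :=
        congrArg (fun y : eig (val k) s => (y : α × β → F)) hx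
      rw [← add_assoc] at h
      obtain ⟨h1, h2, h3⟩ := hinj _ _ _ h
      exact Prod.ext (Subtype.ext h1) (Prod.ext (Subtype.ext h2) (Subtype.ext h3))
    have := LinearMap.finrank_le_finrank_of_injective hL
    rw [Module.finrank_prod, Module.finrank_prod, hd _ (sign_mul hs (Or.inl rfl)), hd _ (sign_mul hs hεc),
      hd _ (sign_mul hs hεd)] at this
    omega
  · have mem' : ∀ (o : α → F), (∀ y, ap e (ten o y) = -ten o y) → ∀ y, ten o y ∈ eig (val e) (-1) :=
      fun o hoe y => by
        rw [mem_eig]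
        show ap e (ten o y) = _
        rw [hoe, neg_one_smul]
    let L : (eig T (s * εc) × eig T (s * εd)) →ₗ[F] ↥(eig (val k) s ⊓ eig (val e) (-1)) :=
      LinearMap.codRestrict _ (((iota c) ∘ₗ (eig T (s * εc)).subtype).coprod ((iota d) ∘ₗ (eig T (s * εd)).subtype))
        fun x => Submodule.add_mem _ ⟨mem c εc hεc kc' _ x.1.2, mem' c hec _⟩ ⟨mem d εd hεd kd _ x.2.2, mem' d hed _⟩
    have hL : Function.Injective L := (injective_iff_map_eq_zero L).2 fun x hx => by
      have h : ten c (x.1 : β → F) + ten d (x.2 : β → F) = 0 :=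
        congrArg (fun y : ↥(eig (val k) s ⊓ eig (val e) (-1)) => (y : α × β → F)) hx
      obtain ⟨-, h2, h3⟩ := hinj 0 (x.1 : β → F) (x.2 : β → F) (by rw [ten_zero_right, zero_add, h])
      exact Prod.ext (Subtype.ext h2) (Subtype.ext h3)
    have := LinearMap.finrank_le_finrank_of_injective hL
    rw [Module.finrank_prod, hd _ (sign_mul hs hεc), hd _ (sign_mul hs hεd)] at this
    omega

/-- Square classes of similitude ratios in odd dimension. -/
theorem mult_square {S : Matrix α α F} {μ : F} (hμ : μ ≠ 0)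
    (hS : ∀ u v, QuadraticMap.polar ⇑QA (S *ᵥ u) (S *ᵥ v) = μ * QuadraticMap.polar ⇑QA u v) : IsSquare μ := by
  have e : Sᵀ * JA * S = μ • JA := Matrix.ext fun i j => by
    have h := hS (Pi.single i 1) (Pi.single j 1)
    rw [H.gA.pol, H.gA.pol, Matrix.mulVec_single_one, Matrix.mulVec_single_one, Matrix.mulVec_single_one,
      single_dotProduct, one_mul] at h
    rw [Matrix.mul_assoc, Matrix.mul_apply, Matrix.smul_apply, smul_eq_mul]
    exact h
  have h := congrArg Matrix.det e
  rw [Matrix.det_mul, Matrix.det_mul, Matrix.det_transpose, Matrix.det_smul, H.cardA] at h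
  have h' : S.det * S.det = μ ^ 3 := mul_right_cancel₀ H.gA.isUnit_det.ne_zero (by linear_combination h)
  exact ⟨S.det / μ, by field_simp; linear_combination -h'⟩

/-- A single sign on a line gives a Kronecker product. -/
theorem tens_of_sign (hS : Small QB M) {z h : Grp Q} (hh : h ∈ M) (hzh : h * z = z * h) {o p r : α → F}
    (ho : OrthA QA o p r) {s : F} (hs : s = 1 ∨ s = -1) (zo : ∀ y, ap z (ten o y) = s • ten o y)
    (zp : ∀ y, ap z (ten p y) = (-s) • ten p y) (zr : ∀ y, ap z (ten r y) = (-s) • ten r y) :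
    Tens (val h) ∧ ∀ y, ∃ y', ap h (ten o y) = ten o y' := by
  have key : ∀ y, ∃ y', ap h (ten o y) = ten o y' := by
    intro y
    obtain ⟨x, hx⟩ : ∃ x, x = ap h (ten o y) := ⟨_, rfl⟩
    have hzx : ap z x = s • x := by rw [hx, ← ap_mul, ← hzh, ap_mul, zo, ap_smul]
    have e1 := H.expandO ho x
    have e2 := congrArg (ap z) e1
    rw [hzx, ap_add, ap_add, ap_smul, ap_smul, ap_smul, zo, zp, zr] at e2
    refine ⟨(2 * QA o)⁻¹ • ctrA JA o x, ?_⟩
    rw [← hx, ten_smul_right]
    have hs0 : s ≠ 0 := by rcases hs with rfl | rfl <;> simp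
    refine smul_right_injective _ (mul_ne_zero H.two hs0) ?_
    linear_combination (norm := module) s • e1 + e2
  exact ⟨H.tens_of_line hS hh ho.qa ho.qa key, key⟩

/-- Without central elements, all the elements are Kronecker products. -/
theorem tens_all (hS : Small QB M) {g : Grp Q} (hg : g ∈ M) : Tens (val g) := by
  classical
  haveI := Fintype.ofFinite F
  by_contra hgt
  obtain ⟨a₀, ha₀, ha0⟩ := H.gA.exists_sing (by rw [H.cardA])
  obtain ⟨a₁, a₂, hA⟩ := H.exists_frameA ha₀ ha0
  obtain ⟨ν, hν⟩ := FiniteField.exists_nonsquare (F := F) fun e => H.two (by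
    have : CharP F 2 := e ▸ ringChar.charP F
    exact CharP.cast_eq_zero F 2)
  have qv : ∀ t : F, QA (a₀ + t • a₂) = t := fun t => by
    rw [q_add, q_smul, hA.q0, hA.q2, b_smul_right, hA.p02]; ring
  have hν0 : ν ≠ 0 := fun e => hν (e ▸ IsSquare.zero)
  obtain ⟨a, ha, qa1⟩ : ∃ a, QA a ≠ 0 ∧ QA a = 1 := ⟨_, by rw [qv 1]; exact one_ne_zero, qv 1⟩
  obtain ⟨b, hb, qbν⟩ : ∃ b, QA b ≠ 0 ∧ QA b = ν := ⟨_, by rw [qv ν]; exact hν0, qv ν⟩
  obtain ⟨e, he, he2, eact⟩ := H.exists_ec ha
  obtain ⟨f, hf, hf2, fact⟩ := H.exists_ec hb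
  obtain ⟨ea, eo, eimg⟩ := H.ec_fix ha eact
  obtain ⟨fb, -, fimg⟩ := H.ec_fix hb fact
  obtain ⟨e', he'def⟩ : ∃ e', e' = g * f * g⁻¹ := ⟨_, rfl⟩
  have he' : e' ∈ M := he'def ▸ M.mul_mem (M.mul_mem hg hf) (M.inv_mem hg)
  have he'2 : e' * e' = 1 := by
    rw [he'def, show g * f * g⁻¹ * (g * f * g⁻¹) = g * (f * f) * g⁻¹ by group, hf2, mul_one, mul_inv_cancel]
  have e'g : ∀ y, ap e' (ap g (ten b y)) = ap g (ten b y) := fun y => by
    rw [he'def, ap_mul, ap_mul, ap_inv_ap, fb]
  have e'img : ∀ x, ap e' x = x → ∃ y, x = ap g (ten b y) := fun x hx => by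
    obtain ⟨y, hy⟩ := fimg (ap g⁻¹ x) (ap_inj g (by
      rw [ap_ap_inv, ← ap_mul, ← ap_mul, ← he'def, hx]))
    exact ⟨y, by rw [← hy, ap_ap_inv]⟩
  have d4 : Module.finrank F (eig (val e) 1) = 4 := H.finrank_ec ha eact
  have d4' : Module.finrank F (eig (val e') 1) = 4 := by
    let G : eig (val f) 1 →ₗ[F] eig (val e') 1 :=
      LinearMap.codRestrict _ ((val g).mulVecLin ∘ₗ (eig (val f) 1).subtype) fun x => by
        obtain ⟨y, hy⟩ := fimg x.1 (by have := x.2; rw [mem_eig, one_smul] at this; exact this)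
        rw [mem_eig, one_smul]
        show ap e' (ap g (x.1)) = ap g x.1
        rw [hy, e'g]
    have hG : Function.Bijective G := by
      constructor
      · intro x x' h
        exact Subtype.ext (ap_inj g (congrArg (fun y : eig (val e') 1 => (y : α × β → F)) h))
      · intro x
        obtain ⟨y, hy⟩ := e'img x.1 (by have := x.2; rw [mem_eig, one_smul] at this; exact this)
        exact ⟨⟨ten b y, by rw [mem_eig, one_smul]; exact fb y⟩, Subtype.ext hy.symm⟩
    rw [← (LinearEquiv.ofBijective G hG).finrank_eq, H.finrank_ec hb fact]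
  have v2 : ∀ {k : Grp Q}, k * k = 1 → val k * val k = 1 := fun h => congrArg (fun y : Grp Q => val y) h
  have d8 := finrank_eig_add H.two (v2 he2)
  have d8' := finrank_eig_add H.two (v2 he'2)
  rw [H.card_prod_eq, d4] at d8
  rw [H.card_prod_eq, d4'] at d8'
  have hnc : ∀ h ∈ M, h * e * h⁻¹ ≠ e' := by
    intro h hh he_eq
    have hmap : ∀ y, ∃ y', ap (g⁻¹ * h) (ten a y) = ten b y' := by
      intro y
      have hfix : ap e' (ap h (ten a y)) = ap h (ten a y) := by rw [← he_eq, ap_mul, ap_mul, ap_inv_ap, ea]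
      obtain ⟨y', hy'⟩ := e'img _ hfix
      exact ⟨y', by rw [ap_mul, hy', ap_inv_ap]⟩
    have hk := H.tens_of_line hS (M.mul_mem (M.inv_mem hg) hh) ha hb hmap
    obtain ⟨S, T, μ, hμ, -, hSa, hSμ, -⟩ := H.tens_split hk ha hb hmap
    refine hν ?_
    have := hSμ a a
    rw [hSa, b_self, b_self, qa1, qbν, mul_one] at this
    rw [show ν = μ from mul_left_cancel₀ H.two (by linear_combination this)]
    exact H.mult_square hμ hSμ
  obtain ⟨δ, hδ⟩ : ∃ δ, δ = e * e' := ⟨_, rfl⟩
  have hδi : δ⁻¹ = e' * e := by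
    rw [hδ, _root_.mul_inv_rev, inv_eq_of_mul_eq_one_right he2, inv_eq_of_mul_eq_one_right he'2]
  have ei : e⁻¹ = e := inv_eq_of_mul_eq_one_right he2
  have e'i : e'⁻¹ = e' := inv_eq_of_mul_eq_one_right he'2
  have swap1 : ∀ n : ℕ, e * δ ^ n * e⁻¹ = (δ ^ n)⁻¹ := fun n => by
    rw [← conj_pow, ← inv_pow]
    congr 1
    rw [hδi, hδ, ei, ← mul_assoc, he2, one_mul]
  have swap2 : ∀ n : ℕ, e' * δ ^ n * e'⁻¹ = (δ ^ n)⁻¹ := fun n => by
    rw [← conj_pow, ← inv_pow]
    congr 1
    rw [hδi, hδ, e'i, mul_assoc, mul_assoc, he'2, mul_one]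
  haveI : Finite (Grp Q) := inferInstance
  have hpos := orderOf_pos δ
  rcases Nat.even_or_odd (orderOf δ) with ⟨m, hm⟩ | ⟨m, hm⟩
  swap
  · refine hnc (δ ^ m) (M.pow_mem (hδ ▸ M.mul_mem he he') m) ?_
    have h1 : e * (δ ^ m)⁻¹ = δ ^ m * e := by
      rw [← swap1 m, ei, ← mul_assoc, ← mul_assoc, he2, one_mul]
    have h2 : δ ^ m * δ ^ m = δ⁻¹ := eq_inv_of_mul_eq_one_left (by
      rw [← pow_add, ← pow_succ, ← two_mul, ← hm, pow_orderOf_eq_one])
    rw [mul_assoc, h1, ← mul_assoc, h2, hδi, mul_assoc, he2, mul_one]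
  obtain ⟨ζ, hζ⟩ : ∃ ζ, ζ = δ ^ m := ⟨_, rfl⟩
  have hζM : ζ ∈ M := hζ ▸ M.pow_mem (hδ ▸ M.mul_mem he he') m
  have hζ1 : ζ ≠ 1 := hζ ▸ pow_ne_one_of_lt_orderOf (by omega) (by omega)
  have hζ2 : ζ * ζ = 1 := by rw [hζ, ← pow_add, ← hm, pow_orderOf_eq_one]
  have ζe : e * ζ = ζ * e := by
    have := swap1 m
    rwa [← hζ, inv_eq_of_mul_eq_one_right hζ2, mul_inv_eq_iff_eq_mul] at this
  have ζe' : e' * ζ = ζ * e' := by
    have := swap2 m
    rwa [← hζ, inv_eq_of_mul_eq_one_right hζ2, mul_inv_eq_iff_eq_mul] at this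
  have common : ∀ (x : α × β → F) (s s' : F), ap e x = s • x → ap e' x = s' • x → ap ζ x = (s' * s) ^ m • x := by
    intro x s s' h1 h2
    rw [hζ]
    induction m generalizing x with
    | zero => simp
    | succ n ih =>
      have hx : ap δ x = (s' * s) • x := by rw [hδ, ap_mul, h2, ap_smul, h1, smul_smul]
      have hn : ∀ j : ℕ, ap (δ ^ j) x = (s' * s) ^ j • x := fun j => by
        induction j with
        | zero => simp
        | succ j ih => rw [pow_succ, ap_mul, hx, ap_smul, ih, smul_smul, ← pow_succ']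
      exact hn _
  have hpres : ∀ y, ∃ y', ap ζ (ten a y) = ten a y' := fun y =>
    eimg _ (by rw [← ap_mul, ζe, ap_mul, ea])
  obtain ⟨T, c, d, εc, εd, ho, hεc, hεd, za, zc, zd, hT⟩ :=
    H.invol_data hζM hζ2 (H.tens_of_line hS hζM ha ha hpres) ha hpres
  have ec : ∀ y, ap e (ten c y) = -ten c y := eo c ho.ab
  have ed : ∀ y, ap e (ten d y) = -ten d y := eo d ho.ac
  rcases hT with ⟨τ, hτ, rfl⟩ | hT
  · simp only [Matrix.smul_mulVec, Matrix.one_mulVec, ten_smul_right, smul_smul] at za zc zd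
    have notscalar : ∀ s : F, (s = 1 ∨ s = -1) → ¬ ((∀ y, ap ζ (ten a y) = s • ten a y) ∧
        (∀ y, ap ζ (ten c y) = s • ten c y) ∧ ∀ y, ap ζ (ten d y) = s • ten d y) := by
      rintro s hs ⟨h1, h2, h3⟩
      have hall : ∀ x, ap ζ x = s • x := fun x => by
        conv_lhs => rw [H.expandO ho x]
        conv_rhs => rw [H.expandO ho x]
        rw [ap_add, ap_add, ap_smul, ap_smul, ap_smul, h1, h2, h3, smul_add, smul_add, smul_comm s, smul_comm s,
          smul_comm s]
      rcases hs with rfl | rfl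
      · exact hζ1 (ext_ap fun x => by rw [hall, one_smul, ap_one])
      · obtain ⟨x, hx, hx0⟩ := Submodule.exists_mem_ne_zero_of_ne_bot
          (p := eig (val e) (-1) ⊓ eig (val e') (-1)) fun hbot => by
            have := Submodule.finrank_sup_add_finrank_inf_eq (eig (val e) (-1)) (eig (val e') (-1))
            rw [hbot, finrank_bot] at this
            have h12 := Submodule.finrank_le (eig (val e) (-1) ⊔ eig (val e') (-1))
            rw [H.dim] at h12
            omega
        have h := common x (-1) (-1) (mem_eig.1 hx.1) (mem_eig.1 hx.2)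
        rw [hall, neg_one_mul, neg_neg, one_pow, one_smul] at h
        have h5 : (2 : F) • x = 0 := by linear_combination (norm := module) -h
        exact hx0 ((smul_eq_zero.1 h5).resolve_left H.two)
    obtain ⟨o, p, r, hop, s, hs, zo, zp, zr⟩ : ∃ o p r, OrthA QA o p r ∧ ∃ s : F, (s = 1 ∨ s = -1) ∧
        (∀ y, ap ζ (ten o y) = s • ten o y) ∧ (∀ y, ap ζ (ten p y) = (-s) • ten p y) ∧
        ∀ y, ap ζ (ten r y) = (-s) • ten r y := by
      rcases hεc with rfl | rfl <;> rcases hεd with rfl | rfl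
      · exact absurd ⟨za, fun y => by simpa using zc y, fun y => by simpa using zd y⟩ (notscalar τ hτ)
      · exact ⟨d, a, c, ho.rot.rot, -τ, by rcases hτ with rfl | rfl <;> simp, fun y => by simpa using zd y,
          fun y => by simpa using za y, fun y => by simpa using zc y⟩
      · exact ⟨c, d, a, ho.rot, -τ, by rcases hτ with rfl | rfl <;> simp, fun y => by simpa using zc y,
          fun y => by simpa using zd y, fun y => by simpa using za y⟩
      · exact ⟨a, c, d, ho, τ, hτ, za, fun y => by simpa using zc y, fun y => by simpa using zd y⟩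
    obtain ⟨ht, hkey⟩ := H.tens_of_sign hS he' ζe' hop hs zo zp zr
    obtain ⟨T', c', d', εc', εd', ho', hεc', hεd', za', zc', zd', hT'⟩ := H.invol_data he' he'2 ht hop.qa hkey
    rcases hT' with ⟨τ', hτ', rfl⟩ | hT'
    · simp only [Matrix.smul_mulVec, Matrix.one_mulVec, ten_smul_right, smul_smul] at za' zc' zd'
      have finish : ∀ q : α → F, QA q ≠ 0 → (∀ y, ap e' (ten q y) = ten q y) → False := by
        intro q hq hq'
        have hmap : ∀ y, ∃ y', ap g⁻¹ (ten q y) = ten b y' := fun y => by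
          obtain ⟨y', hy'⟩ := e'img _ (hq' y)
          exact ⟨y', by rw [hy', ap_inv_ap]⟩
        haveI := H.nonempty_left
        haveI := H.nonempty_right
        exact hgt (tens_inv (H.tens_of_line hS (M.inv_mem hg) hq hb hmap) (g : GL (α × β) F).inv_mul
          H.nonempty_left H.nonempty_right)
      have hneg : ∀ (q : α → F) (u : F), (u = 1 ∨ u = -1) → QA q ≠ 0 → (∀ y, ap e' (ten q y) = u • ten q y) →
          u = -1 := by
        intro q u hu hq hq'
        rcases hu with rfl | rfl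
        · exact (finish q hq fun y => by rw [hq', one_smul]).elim
        · rfl
      have h1 := hneg _ τ' hτ' hop.qa za'
      have h2 := hneg _ _ (sign_mul hεc' hτ') ho'.qb zc'
      have h3 := hneg _ _ (sign_mul hεd' hτ') ho'.qc zd'
      rw [h1] at za'
      rw [h2] at zc'
      rw [h3] at zd'
      obtain ⟨w, hw, hw0⟩ := H.exists_singB
      obtain ⟨x, hx⟩ : ∃ x, x = ap g (ten b w) := ⟨_, rfl⟩
      have hxneg : ap e' x = (-1 : F) • x := by
        conv_lhs => rw [H.expandO ho' x]
        conv_rhs => rw [H.expandO ho' x]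
        rw [ap_add, ap_add, ap_smul, ap_smul, ap_smul, za', zc', zd', smul_add, smul_add, smul_comm (-1 : F),
          smul_comm (-1 : F), smul_comm (-1 : F)]
      rw [hx, e'g, ← hx] at hxneg
      have h5 : (2 : F) • x = 0 := by linear_combination (norm := module) hxneg
      rw [smul_eq_zero, or_iff_right H.two, hx] at h5
      have hbw : ten b w = (0 : α × β → F) := ap_inj g (by rw [h5, ap_zero])
      exact hw0 (ten_cancel_left (H.aniso_ne hb) (by rw [hbw, ten_zero_right]))
    · have := (H.eig_bounds ho' hεc' hεd' za' zc' zd' hT' (Or.inl rfl)).1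
      omega
  · obtain ⟨-, hE⟩ := H.eig_bounds ho hεc hεd za zc zd hT (s := -1) (Or.inr rfl)
    have h6p := (H.eig_bounds ho hεc hεd za zc zd hT (s := 1) (Or.inl rfl)).1
    have h6m := (H.eig_bounds ho hεc hεd za zc zd hT (s := -1) (Or.inr rfl)).1
    have hE4 := hE e ec ed
    have hζc := finrank_eig_add H.two (v2 hζ2)
    rw [H.card_prod_eq] at hζc
    obtain ⟨N, hN⟩ : ∃ N, N = eig (val ζ) (-1) := ⟨_, rfl⟩
    rw [← hN] at hE4 h6m hζc
    have hfixN : ∀ x ∈ N, ∀ s s' : F, ap e x = s • x → ap e' x = s' • x → s' * s = 1 → x = 0 := by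
      intro x hx s s' h1 h2 hss
      have h := common x s s' h1 h2
      rw [hN, mem_eig] at hx
      rw [hss, one_pow, one_smul, show ap ζ x = (-1 : F) • x from hx] at h
      have h5 : (2 : F) • x = 0 := by linear_combination (norm := module) -h
      exact (smul_eq_zero.1 h5).resolve_left H.two
    -- on `N` the negated spaces of `e` and `e'` meet trivially
    have hp' : Module.finrank F ↥(N ⊓ eig (val e') (-1)) ≤ 2 := by
      have hdis : (N ⊓ eig (val e) (-1)) ⊓ (N ⊓ eig (val e') (-1)) = ⊥ := (Submodule.eq_bot_iff _).2 fun x hx =>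
        hfixN x hx.1.1 (-1) (-1) (mem_eig.1 hx.1.2) (mem_eig.1 hx.2.2) (by ring)
      have := Submodule.finrank_sup_add_finrank_inf_eq (N ⊓ eig (val e) (-1)) (N ⊓ eig (val e') (-1))
      rw [hdis, finrank_bot] at this
      have hle := Submodule.finrank_mono (sup_le (inf_le_left (b := eig (val e) (-1)))
        (inf_le_left (b := eig (val e') (-1))) : (N ⊓ eig (val e) (-1)) ⊔ (N ⊓ eig (val e') (-1)) ≤ N)
      omega
    have hsplit : N ≤ (N ⊓ eig (val e') 1) ⊔ (N ⊓ eig (val e') (-1)) := by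
      intro x hx
      rw [hN, mem_eig] at hx
      have hx' : ap ζ (ap e' x) = (-1 : F) • ap e' x := by
        rw [← ap_mul, ← ζe', ap_mul, show ap ζ x = (-1 : F) • x from hx, ap_smul]
      refine Submodule.mem_sup.2 ⟨(2 : F)⁻¹ • (x + ap e' x), ⟨?_, ?_⟩, (2 : F)⁻¹ • (x - ap e' x), ⟨?_, ?_⟩, ?_⟩
      · rw [SetLike.mem_coe, hN, mem_eig]
        show ap ζ _ = _
        rw [ap_smul, ap_add, hx', show ap ζ x = (-1 : F) • x from hx]; module
      · rw [SetLike.mem_coe, mem_eig]
        show ap e' _ = _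
        rw [ap_smul, ap_add, ← ap_mul, he'2, ap_one]; module
      · rw [SetLike.mem_coe, hN, mem_eig]
        show ap ζ _ = _
        rw [ap_smul, ap_sub, hx', show ap ζ x = (-1 : F) • x from hx]; module
      · rw [SetLike.mem_coe, mem_eig]
        show ap e' _ = _
        rw [ap_smul, ap_sub, ← ap_mul, he'2, ap_one]; module
      · have := H.two
        match_scalars <;> field_simp <;> ring
    have hp4 : 4 ≤ Module.finrank F ↥(N ⊓ eig (val e') 1) := by
      have h1 := Submodule.finrank_mono hsplit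
      have h2 := Submodule.finrank_add_le_finrank_add_finrank (N ⊓ eig (val e') 1) (N ⊓ eig (val e') (-1))
      omega
    have hFix : eig (val e') 1 ≤ N := by
      have := Submodule.eq_of_le_of_finrank_le (inf_le_right : N ⊓ eig (val e') 1 ≤ eig (val e') 1) (by omega)
      rw [← this]
      exact inf_le_left
    -- a vector fixed by `e` and `ζ`
    obtain ⟨u, hu, hu0⟩ := Submodule.exists_mem_ne_zero_of_ne_bot (p := eig T 1) fun hbot => by
      have := hT 1 (Or.inl rfl)
      rw [hbot, finrank_bot] at this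
      omega
    obtain ⟨x, hx⟩ : ∃ x, x = ten a u := ⟨_, rfl⟩
    have hx0 : x ≠ 0 := fun h0 => hu0 (ten_cancel_left (H.aniso_ne ha) (by rw [← hx, h0, ten_zero_right]))
    have hζx : ap ζ x = x := by rw [hx, za, mem_eig.1 hu, one_smul]
    have hex : ap e x = x := by rw [hx, ea]
    have hsum : x + ap e' x = 0 := by
      obtain ⟨y, hy⟩ : ∃ y, y = x + ap e' x := ⟨_, rfl⟩
      have hy1 : ap e' y = y := by rw [hy, ap_add, ← ap_mul, he'2, ap_one, add_comm]
      have hy2 : ap ζ y = y := by rw [hy, ap_add, ← ap_mul, ← ζe', ap_mul, hζx]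
      have hy3 : ap ζ y = (-1 : F) • y := by
        have : y ∈ N := hFix (by rw [mem_eig, one_smul]; exact hy1)
        rw [hN] at this
        exact mem_eig.1 this
      rw [hy2] at hy3
      have h5 : (2 : F) • y = 0 := by linear_combination (norm := module) hy3
      rw [← hy]
      exact (smul_eq_zero.1 h5).resolve_left H.two
    have he'x : ap e' x = (-1 : F) • x := by linear_combination (norm := module) hsum
    have hpm : ((-1 : F) * 1) ^ m = 1 := by
      have h := common x 1 (-1) (by rw [hex, one_smul]) he'x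
      rw [hζx] at h
      refine smul_left_injective F hx0 ?_
      show ((-1 : F) * 1) ^ m • x = (1 : F) • x
      rw [one_smul]
      exact h.symm
    have hne : (N ⊓ eig (val e) (-1)) ⊓ (N ⊓ eig (val e') 1) ≠ ⊥ := fun hbot => by
      have := Submodule.finrank_sup_add_finrank_inf_eq (N ⊓ eig (val e) (-1)) (N ⊓ eig (val e') 1)
      rw [hbot, finrank_bot] at this
      have hle := Submodule.finrank_mono (sup_le (inf_le_left (b := eig (val e) (-1)))
        (inf_le_left (b := eig (val e') 1)) : (N ⊓ eig (val e) (-1)) ⊔ (N ⊓ eig (val e') 1) ≤ N)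
      omega
    obtain ⟨r, hr, hr0⟩ := Submodule.exists_mem_ne_zero_of_ne_bot hne
    have hrN := hr.1.1
    have h := common r (-1) 1 (mem_eig.1 hr.1.2) (mem_eig.1 hr.2.2)
    rw [mul_comm] at hpm
    rw [hpm, one_smul] at h
    rw [hN] at hrN
    have hr2 : ap ζ r = (-1 : F) • r := mem_eig.1 hrN
    rw [hr2] at h
    have h5 : (2 : F) • r = 0 := by linear_combination (norm := module) -h
    exact hr0 ((smul_eq_zero.1 h5).resolve_left H.two)

/-- The group is the stabiliser or the whole of `Ω`. -/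
theorem dichotomy : (∀ g ∈ M, Tens (val g)) ∨ M = Cfsg.Omega F ⇑Q := by
  by_cases hS : Small QB M
  · exact Or.inl fun g hg => H.tens_all hS hg
  · exact Or.inr (le_antisymm H.le (H.omega_le hS))

end Hyp

end CfsgLib.Classical.TensorOrthFour
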