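import Cfsg.Agent.Lib.Classical.TensorOrthFour.Ortho
import Mathlib.LinearAlgebra.Determinant
import Cfsg.Agent.Lib.Coprime.Generation

set_option autoImplicit false
set_option linter.unusedSectionVars false
set_option linter.style.haveILetI false

/-!
Involutions and unipotent isometries of the two factors, and a fixed element of a group acting.
-/

namespace CfsgLib.Classical.TensorOrthFour

open Matrix CfsgLib.Classical.TensorMax CfsgLib.Orth
open CfsgLib.Classical.TensorSymp (ten)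
open scoped MatrixGroups Kronecker

variable {F : Type*} [Field F] {α β : Type} [Fintype α] [DecidableEq α] [Fintype β] [DecidableEq β]

/-- The eigenspace of a matrix. -/
def eig {γ : Type} [Fintype γ] (X : Matrix γ γ F) (s : F) : Submodule F (γ → F) where
  carrier := {x | X *ᵥ x = s • x}
  add_mem' {x y} hx hy := by
    show X *ᵥ (x + y) = s • (x + y)
    rw [Matrix.mulVec_add, show X *ᵥ x = s • x from hx, show X *ᵥ y = s • y from hy, smul_add]
  zero_mem' := by simp
  smul_mem' c x hx := by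
    show X *ᵥ (c • x) = s • c • x
    rw [Matrix.mulVec_smul, show X *ᵥ x = s • x from hx, smul_comm]

theorem mem_eig {γ : Type} [Fintype γ] {X : Matrix γ γ F} {s : F} {x : γ → F} :
    x ∈ eig X s ↔ X *ᵥ x = s • x := Iff.rfl

theorem isCompl_eig {γ : Type} [Fintype γ] [DecidableEq γ] (h2 : (2 : F) ≠ 0) {X : Matrix γ γ F} (hX : X * X = 1) :
    IsCompl (eig X 1) (eig X (-1)) := by
  refine ⟨Submodule.disjoint_def.2 fun x h1 h2' => ?_, codisjoint_iff.2 (eq_top_iff.2 fun x _ => ?_)⟩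
  · have e : (2 : F) • x = 0 := by
      rw [mem_eig, one_smul] at h1
      rw [mem_eig, h1] at h2'
      linear_combination (norm := module) h2'
    exact (smul_eq_zero.1 e).resolve_left h2
  · refine Submodule.mem_sup.2 ⟨(2 : F)⁻¹ • (x + X *ᵥ x), ?_, (2 : F)⁻¹ • (x - X *ᵥ x), ?_, ?_⟩
    · rw [mem_eig, Matrix.mulVec_smul, Matrix.mulVec_add, Matrix.mulVec_mulVec, hX, Matrix.one_mulVec, one_smul,
        add_comm]
    · rw [mem_eig, Matrix.mulVec_smul, Matrix.mulVec_sub, Matrix.mulVec_mulVec, hX, Matrix.one_mulVec]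
      module
    · match_scalars <;> field_simp <;> ring

theorem finrank_eig_add {γ : Type} [Fintype γ] [DecidableEq γ] (h2 : (2 : F) ≠ 0) {X : Matrix γ γ F} (hX : X * X = 1) :
    Module.finrank F (eig X 1) + Module.finrank F (eig X (-1)) = Fintype.card γ := by
  rw [Submodule.finrank_add_eq_of_isCompl (isCompl_eig h2 hX), Module.finrank_pi]

theorem det_invol {γ : Type} [Fintype γ] [DecidableEq γ] (h2 : (2 : F) ≠ 0) {X : Matrix γ γ F} (hX : X * X = 1) :
    X.det = (-1) ^ Module.finrank F (eig X (-1)) := by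
  obtain ⟨e, he⟩ : ∃ e, e = Submodule.prodEquivOfIsCompl _ _ (isCompl_eig h2 hX) := ⟨_, rfl⟩
  have hf : Matrix.toLin' X = e.toLinearMap ∘ₗ
      (LinearMap.prodMap LinearMap.id ((-1 : F) • LinearMap.id)) ∘ₗ e.symm.toLinearMap := by
    refine LinearMap.ext fun x => ?_
    obtain ⟨⟨u, v⟩, rfl⟩ := e.surjective x
    simp only [LinearMap.comp_apply, LinearEquiv.coe_coe, LinearEquiv.symm_apply_apply]
    simp only [LinearMap.prodMap_apply, LinearMap.id_apply, LinearMap.smul_apply, he, Submodule.coe_prodEquivOfIsCompl', Submodule.coe_smul,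
      Matrix.toLin'_apply, Matrix.mulVec_add, mem_eig.1 u.2, mem_eig.1 v.2, one_smul]
  rw [← LinearMap.det_toLin', hf, LinearMap.det_conj, LinearMap.det_prodMap, LinearMap.det_id,
    LinearMap.det_smul, LinearMap.det_id, mul_one, one_mul]

theorem eq_of_eig {γ : Type} [Fintype γ] [DecidableEq γ] {X : Matrix γ γ F} {s : F}
    (h : Module.finrank F (eig X s) = Fintype.card γ) : X = s • 1 := by
  have := Submodule.eq_top_of_finrank_eq (h.trans (Module.finrank_pi F (ι := γ)).symm)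
  refine Matrix.ext_iff_mulVec.2 fun x => ?_
  rw [Matrix.smul_mulVec, Matrix.one_mulVec]
  exact mem_eig.1 (this ▸ Submodule.mem_top)

/-- A fixed element of prime order for a group normalising a group of order divisible by the prime. -/
theorem exists_commuting {G : Type*} [Group G] [Finite G] {p : ℕ} [hp : Fact p.Prime] {U K : Subgroup G}
    (hU : IsPGroup p U) (hUK : U ≤ Subgroup.normalizer (K : Set G)) (hd : p ∣ Nat.card K) :
    ∃ k ∈ K, k ≠ 1 ∧ k ^ p = 1 ∧ ∀ u ∈ U, u * k = k * u := by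
  classical
  let φ := CfsgLib.Coprime.conjAct hUK
  letI : MulAction U (Sylow p K) := MulAction.compHom _ φ
  obtain ⟨P, hP⟩ : Nonempty (MulAction.fixedPoints U (Sylow p K)) := by
    refine Set.Nonempty.to_subtype (hU.nonempty_fixed_point_of_prime_not_dvd_card _ fun h => ?_)
    have h1 := card_sylow_modEq_one p K
    rw [Nat.ModEq, Nat.mod_eq_zero_of_dvd h, Nat.one_mod_eq_one.2 hp.out.ne_one] at h1
    exact zero_ne_one h1
  have hmem : ∀ (u : U) (x : K), x ∈ P → φ u x ∈ P := fun u x hx => by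
    have h : φ u • P = P := hP u
    have h' : φ u x ∈ (φ u • P : Sylow p K) := ⟨x, hx, rfl⟩
    rwa [h] at h'
  letI : MulAction U {x : K // x ∈ P} :=
    { smul := fun u x => ⟨φ u x.1, hmem u x.1 x.2⟩
      one_smul := fun x => Subtype.ext (show φ 1 x.1 = x.1 by rw [map_one]; rfl)
      mul_smul := fun u v x => Subtype.ext (show φ (u * v) x.1 = φ u (φ v x.1) by rw [map_mul]; rfl) }
  have hdP : p ∣ Nat.card {x : K // x ∈ P} := P.dvd_card_of_dvd_card hd
  obtain ⟨x, hx, hx1⟩ := hU.exists_fixed_point_of_prime_dvd_card_of_fixed_point {x : K // x ∈ P} hdP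
    (a := ⟨1, P.one_mem⟩) fun u => Subtype.ext (show φ u 1 = 1 from map_one _)
  have hk1 : ((x.1 : K) : G) ≠ 1 := fun e => hx1 (Subtype.ext (Subtype.ext e.symm))
  obtain ⟨n, hn⟩ := P.isPGroup' ⟨x.1, x.2⟩
  have hn' : ((x.1 : K) : G) ^ p ^ n = 1 := by
    have := congrArg (fun y : (P : Subgroup K) => ((y : K) : G)) hn
    simpa using this
  obtain ⟨m, hm⟩ := (Nat.dvd_prime_pow hp.out).1 (orderOf_dvd_of_pow_eq_one hn')
  obtain ⟨j, rfl⟩ : ∃ j, m = j + 1 := Nat.exists_eq_succ_of_ne_zero fun e => hk1 (by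
    rw [← orderOf_eq_one_iff, hm.2, e, pow_zero])
  refine ⟨((x.1 : K) : G) ^ p ^ j, K.pow_mem x.1.2 _, fun e => ?_, ?_, fun u hu => ?_⟩
  · have h1 := orderOf_dvd_of_pow_eq_one e
    rw [hm.2, Nat.pow_dvd_pow_iff_le_right hp.out.one_lt] at h1
    omega
  · rw [← pow_mul, ← pow_succ, ← hm.2, pow_orderOf_eq_one]
  · have h := congrArg (fun y : {x : K // x ∈ P} => ((y.1 : K) : G)) (hx ⟨u, hu⟩)
    have hc : Commute u ((x.1 : K) : G) := by
      rw [commute_iff_eq, ← mul_inv_eq_iff_eq_mul]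
      exact h
    exact hc.pow_right _

namespace Hyp

variable [Finite F] {QA : QuadraticForm F (α → F)} {QB : QuadraticForm F (β → F)} {JA : Matrix α α F}
  {JB : Matrix β β F} {Q : QuadraticForm F (α × β → F)} {M : Subgroup (Grp Q)} (H : Hyp QA QB JA JB Q M)
include H

theorem exists_third {a o : α → F} (ha : QA a ≠ 0) (ho' : QA o ≠ 0) (hao : QuadraticMap.polar ⇑QA a o = 0) :
    ∃ d, OrthA QA a o d := by
  obtain ⟨b, c, hb⟩ := H.exists_ortho ha
  obtain ⟨x, y, hxy⟩ : ∃ x y, o = x • b + y • c := ⟨_, _, by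
    conv_lhs => rw [H.resolveO hb o, hao, mul_zero, zero_smul, zero_add]⟩
  have qo : QA o = x * x * QA b + y * y * QA c := by
    rw [hxy, q_add, q_smul, q_smul, b_smul_left, b_smul_right, hb.bc]; ring
  refine ⟨(QA c * y) • b - (QA b * x) • c, ha, ho', ?_, hao, ?_, ?_⟩
  · rw [q_sub, q_smul, q_smul, b_smul_left, b_smul_right, hb.bc]
    intro h
    refine mul_ne_zero (mul_ne_zero hb.qb hb.qc) ho' ?_
    rw [qo]
    linear_combination h
  · rw [b_sub_right, b_smul_right, b_smul_right, hb.ab, hb.ac]; ring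
  · rw [hxy, b_sub_right, b_smul_right, b_smul_right, b_add_left, b_add_left, b_smul_left, b_smul_left, b_smul_left,
      b_smul_left, b_self, b_self, hb.bc, b_comm c b, hb.bc]
    ring

/-- The last vector of an orthogonal basis is an eigenvector when the first two are. -/
theorem third_eigen {S : Matrix α α F}
    (hS : ∀ u v, QuadraticMap.polar ⇑QA (S *ᵥ u) (S *ᵥ v) = QuadraticMap.polar ⇑QA u v) {a o d : α → F}
    (ho : OrthA QA a o d) (ha : S *ᵥ a = a) {ε : F} (hε : ε = 1 ∨ ε = -1) (hoε : S *ᵥ o = ε • o) :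
    ∃ l : F, (l = 1 ∨ l = -1) ∧ S *ᵥ d = l • d := by
  have ε0 : ε ≠ 0 := by rcases hε with rfl | rfl <;> simp
  have h1 : QuadraticMap.polar ⇑QA a (S *ᵥ d) = 0 := by rw [← ha, hS, ho.ac]
  have h2 : QuadraticMap.polar ⇑QA o (S *ᵥ d) = 0 := by
    have := hS o d
    rw [hoε, b_smul_left, ho.bc, mul_eq_zero] at this
    exact this.resolve_left ε0
  have hd := H.resolveO ho (S *ᵥ d)
  rw [h1, h2, mul_zero, mul_zero, zero_smul, zero_smul, zero_add, zero_add] at hd
  refine ⟨_, ?_, hd⟩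
  obtain ⟨l, hl⟩ : ∃ l, l = (2 * QA d)⁻¹ * QuadraticMap.polar ⇑QA d (S *ᵥ d) := ⟨_, rfl⟩
  rw [← hl] at hd ⊢
  have h3 := hS d d
  rw [hd, b_smul_left, b_smul_right, b_self] at h3
  refine mul_self_eq_one_iff.1 (mul_right_cancel₀ (mul_ne_zero H.two ho.qc) ?_)
  linear_combination h3

/-- An involution fixing an anisotropic vector is diagonal. -/
theorem exists_eigenbasis {S : Matrix α α F}
    (hS : ∀ u v, QuadraticMap.polar ⇑QA (S *ᵥ u) (S *ᵥ v) = QuadraticMap.polar ⇑QA u v) (hS2 : S * S = 1)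
    {a : α → F} (hqa : QA a ≠ 0) (ha : S *ᵥ a = a) :
    ∃ (c d : α → F) (εc εd : F), OrthA QA a c d ∧ (εc = 1 ∨ εc = -1) ∧ (εd = 1 ∨ εd = -1) ∧
      S *ᵥ c = εc • c ∧ S *ᵥ d = εd • d := by
  obtain ⟨b, c, hb⟩ := H.exists_ortho hqa
  have hSS : ∀ x, S *ᵥ (S *ᵥ x) = x := fun x => by rw [Matrix.mulVec_mulVec, hS2, Matrix.one_mulVec]
  have hab : QuadraticMap.polar ⇑QA a (S *ᵥ b) = 0 := by rw [← ha, hS, hb.ab]
  obtain ⟨o, ε, hε, hq, hao, hoε⟩ : ∃ (o : α → F) (ε : F), (ε = 1 ∨ ε = -1) ∧ QA o ≠ 0 ∧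
      QuadraticMap.polar ⇑QA a o = 0 ∧ S *ᵥ o = ε • o := by
    by_cases hp : QA (b + S *ᵥ b) = 0
    · refine ⟨b - S *ᵥ b, -1, Or.inr rfl, fun hm => ?_, by rw [b_sub_right, hb.ab, hab, sub_zero], by
        rw [Matrix.mulVec_sub, hSS]; module⟩
      rw [q_add] at hp
      rw [q_sub] at hm
      have hs := hS b b
      rw [b_self, b_self] at hs
      have hs' := mul_left_cancel₀ H.two hs
      rw [hs'] at hp hm
      refine hb.qb ((mul_eq_zero.1 (?_ : (2 : F) * (2 * QA b) = 0)).resolve_left H.two |> fun h =>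
        (mul_eq_zero.1 h).resolve_left H.two)
      linear_combination hp + hm
    · exact ⟨_, 1, Or.inl rfl, hp, by rw [b_add_right, hb.ab, hab, add_zero], by
        rw [Matrix.mulVec_add, hSS]; module⟩
  obtain ⟨d, hd⟩ := H.exists_third hqa hq hao
  obtain ⟨l, hl, hdl⟩ := H.third_eigen hS hd ha hε hoε
  exact ⟨o, d, ε, l, hd, hε, hl, hoε, hdl⟩

/-- An isometry of odd prime order the characteristic fixing an anisotropic vector is trivial. -/
theorem eq_one_of_pow {p : ℕ} [hp : Fact p.Prime] [CharP F p] {S : Matrix α α F}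
    (hS : ∀ u v, QuadraticMap.polar ⇑QA (S *ᵥ u) (S *ᵥ v) = QuadraticMap.polar ⇑QA u v) (hSp : S ^ p = 1)
    {a : α → F} (hqa : QA a ≠ 0) (ha : S *ᵥ a = a) : S = 1 := by
  haveI := H.nonempty_left
  haveI : CharP (Matrix α α F) p := inferInstance
  have hN : (S - 1) ^ p = 0 := by
    rw [sub_pow_char_of_commute p (Commute.one_right S), hSp, one_pow, sub_self]
  obtain ⟨b, c, hb⟩ := H.exists_ortho hqa
  obtain ⟨w, hw0, haw, hww⟩ : ∃ w, w ≠ 0 ∧ QuadraticMap.polar ⇑QA a w = 0 ∧ S *ᵥ w = w := by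
    have key : ∀ (k : ℕ) (x : α → F), x ≠ 0 → QuadraticMap.polar ⇑QA a x = 0 → (S - 1) ^ k *ᵥ x = 0 →
        ∃ w, w ≠ 0 ∧ QuadraticMap.polar ⇑QA a w = 0 ∧ S *ᵥ w = w := by
      intro k
      induction k with
      | zero => intro x hx _ h; rw [pow_zero, Matrix.one_mulVec] at h; exact absurd h hx
      | succ k ih =>
        intro x hx hax h
        by_cases h0 : (S - 1) *ᵥ x = 0
        · exact ⟨x, hx, hax, sub_eq_zero.1 (by rwa [Matrix.sub_mulVec, Matrix.one_mulVec] at h0)⟩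
        refine ih _ h0 ?_ (by rwa [Matrix.mulVec_mulVec, ← pow_succ])
        rw [Matrix.sub_mulVec, Matrix.one_mulVec, b_sub_right, hax, sub_zero, ← ha, hS, hax]
    exact key p b (H.aniso_ne hb.qb) hb.ab (by rw [hN, Matrix.zero_mulVec])
  have fix3 : ∀ {x y : α → F}, S *ᵥ x = x → S *ᵥ y = y →
      (∀ v, ∃ r s t : F, v = r • a + s • x + t • y) → S = 1 := by
    intro x y hx hy hv
    refine Matrix.ext_iff_mulVec.2 fun v => ?_
    obtain ⟨r, s, t, rfl⟩ := hv v
    simp only [Matrix.mulVec_add, Matrix.mulVec_smul, ha, hx, hy, Matrix.one_mulVec]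
  by_cases qw : QA w = 0
  · obtain ⟨y, hy, hwy⟩ : ∃ y, QuadraticMap.polar ⇑QA a y = 0 ∧ QuadraticMap.polar ⇑QA w y = 1 := by
      obtain ⟨u, hu⟩ : ∃ u, QuadraticMap.polar ⇑QA w u ≠ 0 := by
        by_contra hc
        push Not at hc
        exact hw0 (H.gA.nd w hc)
      refine ⟨(QuadraticMap.polar ⇑QA w u)⁻¹ • (u - (QuadraticMap.polar ⇑QA a u / (2 * QA a)) • a), ?_, ?_⟩
      · rw [b_smul_right, b_sub_right, b_smul_right, b_self, div_mul_cancel₀ _ (mul_ne_zero H.two hqa), sub_self,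
          mul_zero]
      · rw [b_smul_right, b_sub_right, b_smul_right, b_comm w a, haw, mul_zero, sub_zero, inv_mul_cancel₀ hu]
    obtain ⟨w', hw'⟩ : ∃ w', w' = y - QA y • w := ⟨_, rfl⟩
    have hA : FrameA QA w a w' := ⟨qw, by rw [hw', q_sub, q_smul, qw, b_smul_right, b_comm y w, hwy]; ring,
      by rw [hw', b_sub_right, b_smul_right, hwy, b_self_zero qw]; ring, by rw [b_comm]; exact haw,
      by rw [hw', b_sub_left, b_smul_left, b_comm y a, hy, b_comm w a, haw]; ring, hqa⟩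
    have res : ∀ v : α → F, v = QuadraticMap.polar ⇑QA w' v • w + QuadraticMap.polar ⇑QA w v • w' +
        ((2 * QA a)⁻¹ * QuadraticMap.polar ⇑QA a v) • a := fun v => by
      conv_lhs => rw [← Matrix.one_mulVec v, H.resolveA hA]
      simp [Matrix.add_mulVec, Matrix.smul_mulVec, H.gA.rk_mulVec, smul_smul]
    have e := res (S *ᵥ w')
    have h1 : QuadraticMap.polar ⇑QA w (S *ᵥ w') = 1 := by rw [← hww, hS, hA.p02]
    have h2 : QuadraticMap.polar ⇑QA a (S *ᵥ w') = 0 := by rw [← ha, hS, b_comm, hA.p21]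
    rw [h1, h2, one_smul, mul_zero, zero_smul, add_zero] at e
    have h3 := hS w' w'
    rw [b_self, b_self, hA.q2] at h3
    rw [e, q_add, q_smul, qw, hA.q2, b_smul_left, hA.p02] at h3
    have h4 : QuadraticMap.polar ⇑QA w' (S *ᵥ w') = 0 := by
      refine (mul_eq_zero.1 (?_ : (2 : F) * QuadraticMap.polar ⇑QA w' (S *ᵥ w') = 0)).resolve_left H.two
      linear_combination h3
    rw [h4, zero_smul, zero_add] at e
    exact fix3 hww e fun v => ⟨_, _, _, (res v).trans (by abel)⟩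
  · obtain ⟨d, hd⟩ := H.exists_third hqa qw haw
    obtain ⟨l, hl, hdl⟩ := H.third_eigen hS hd ha (Or.inl rfl) (by rw [hww, one_smul])
    have hdd : S *ᵥ d = d := by
      rcases hl with rfl | rfl
      · rwa [one_smul] at hdl
      exfalso
      have hk : ∀ k : ℕ, S ^ k *ᵥ d = (-1 : F) ^ k • d := fun k => by
        induction k with
        | zero => simp
        | succ k ih => rw [pow_succ', ← Matrix.mulVec_mulVec, ih, Matrix.mulVec_smul, hdl, smul_smul, ← pow_succ]
      have hodd : Odd p := hp.out.odd_of_ne_two fun e => H.two (by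
        have := CharP.cast_eq_zero F p
        rw [e] at this
        simpa using this)
      have h := hk p
      rw [hSp, Matrix.one_mulVec, hodd.neg_one_pow] at h
      have h5 : (2 : F) • d = 0 := by linear_combination (norm := module) h
      exact H.aniso_ne hd.qc ((smul_eq_zero.1 h5).resolve_left H.two)
    exact fix3 hww hdd fun v => ⟨_, _, _, H.resolveO hd v⟩

end Hyp

end CfsgLib.Classical.TensorOrthFour
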