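import Cfsg.Agent.Lib.Classical.TensorOrthFour.Global
import Cfsg.Agent.Lib.Classical.TensorOrth.Main

set_option autoImplicit false
set_option linter.unusedSectionVars false
set_option linter.style.haveILetI false

/-!
The stabiliser in `Ω` of a product of a three-dimensional orthogonal space with a four-dimensional one of minus
type is maximal, for odd fields with more than three elements.
-/

namespace CfsgLib.Classical.TensorOrthFour

open Matrix CfsgLib.Classical.TensorMax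
open CfsgLib.Classical.TensorOrth (coords coords_apply toGL toGL_mem_iff exists_form gram_symm gram_det smul_symm
  smul_det excl_four excl_three formOfGram_eq)
open scoped MatrixGroups Kronecker

variable {F : Type*} [Field F]

theorem isMaximalIn [Fintype F] {Q : QuadraticForm F (Fin 12 → F)} (h2 : (2 : F) ≠ 0)
    (h5 : 5 ≤ Fintype.card F) (e : Fin 12 ≃ Fin 3 × Fin 4) (P : GL (Fin 12) F)
    {f₁ : (Fin 3 → F) → (Fin 3 → F) → F} {f₂ : (Fin 4 → F) → (Fin 4 → F) → F}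
    (hf₁ : Cfsg.Geo.IsSymmetricForm f₁) (hf₂ : Cfsg.Geo.IsSymmetricForm f₂)
    (hf₂m : ¬ Cfsg.Geo.IsPlusTypeOn (fun v : Fin 4 → F => f₂ v v) ⊤)
    (hT : Cfsg.Geo.IsTensorFormStructure id (QuadraticMap.polar ⇑Q) f₁ f₂ e P) :
    Cfsg.Geo.IsMaximalIn (Cfsg.Geo.omegaGL ⇑Q)
      (Cfsg.Geo.tensorProductSubgroup 3 4 e P ⊓ Cfsg.Geo.omegaGL ⇑Q) := by
  classical
  obtain ⟨c, hc, hB⟩ := hT
  obtain ⟨QA, gA, -⟩ := exists_form h2 (smul_symm c (gram_symm hf₁)) (smul_det hc (gram_det hf₁))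
  obtain ⟨QB, gB, hQB⟩ := exists_form h2 (gram_symm hf₂) (gram_det hf₂)
  obtain ⟨JA, hJA⟩ : ∃ JA, JA = c • Cfsg.Geo.gramMatrix f₁ := ⟨_, rfl⟩
  obtain ⟨JB, hJB⟩ : ∃ JB, JB = Cfsg.Geo.gramMatrix f₂ := ⟨_, rfl⟩
  rw [← hJA] at gA
  rw [← hJB] at gB
  obtain ⟨φ, hφ⟩ : ∃ φ, φ = toGL e P := ⟨_, rfl⟩
  have hkr : ∀ g : GL (Fin 3 × Fin 4) F, φ g ∈ Cfsg.Geo.tensorProductSubgroup 3 4 e P ↔ Tens g.1 := by
    rw [hφ]; exact toGL_mem_iff e P
  set Q₀ : QuadraticForm F (Fin 3 × Fin 4 → F) := Q.comp (coords e P) with hQ₀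
  have hap : ∀ (g : GL (Fin 3 × Fin 4) F) z, (φ g).1 *ᵥ coords e P z = coords e P (g.1 *ᵥ z) := by
    intro g z
    rw [hφ]
    show ((P : Matrix (Fin 12) (Fin 12) F) * Matrix.submatrix g.1 e e * (P⁻¹ : GL (Fin 12) F).1) *ᵥ _ = _
    rw [coords_apply, coords_apply, Matrix.mulVec_mulVec, Matrix.mul_assoc, Units.inv_mul, Matrix.mul_one,
      ← Matrix.mulVec_mulVec, Matrix.submatrix_mulVec_equiv]
    congr 2
    rw [Function.comp_assoc, Equiv.self_comp_symm, Function.comp_id]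
  have hsurj : ∀ v, ∃ z, coords e P z = v := fun v => ⟨((P⁻¹ : GL (Fin 12) F).1 *ᵥ v) ∘ e.symm, by
    rw [coords_apply, Function.comp_assoc, Equiv.symm_comp_self, Function.comp_id, Matrix.mulVec_mulVec,
      Units.mul_inv, Matrix.one_mulVec]⟩
  have hiso : (Cfsg.isometryGroup F ⇑Q₀).map φ.toMonoidHom = Cfsg.isometryGroup F ⇑Q := by
    ext x
    constructor
    · rintro ⟨g, hg, rfl⟩ u w
      obtain ⟨z, rfl⟩ := hsurj u
      show Q ((φ g).1 *ᵥ coords e P z) = Q (coords e P z)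
      rw [hap]
      exact hg z z
    · intro hx
      obtain ⟨g, rfl⟩ := φ.surjective x
      refine ⟨g, fun z w => ?_, rfl⟩
      have h0 : Q ((φ g).1 *ᵥ coords e P z) = Q (coords e P z) := hx _ (coords e P w)
      rw [hap] at h0
      exact h0
  have hom : (Cfsg.Geo.omegaGL ⇑Q₀).map φ.toMonoidHom = Cfsg.Geo.omegaGL ⇑Q := by
    simp only [Cfsg.Geo.omegaGL, Cfsg.Omega, Subgroup.map_subtype_commutator, Subgroup.map_commutator, hiso]
  have homg : ∀ g, φ g ∈ Cfsg.Geo.omegaGL ⇑Q ↔ g ∈ Cfsg.Geo.omegaGL ⇑Q₀ := fun g => by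
    rw [← hom]
    exact Subgroup.mem_map_iff_mem (f := φ.toMonoidHom) φ.injective
  have hpol0 : ∀ x y, QuadraticMap.polar ⇑Q₀ x y = x ⬝ᵥ (JA ⊗ₖ JB) *ᵥ y := by
    intro x y
    have h0 : QuadraticMap.polar ⇑Q₀ x y = QuadraticMap.polar ⇑Q (coords e P x) (coords e P y) := by
      simp only [QuadraticMap.polar, hQ₀, QuadraticMap.comp_apply, map_add]
    rw [h0, coords_apply, coords_apply, hB, formOfGram_eq, hJA, hJB, Matrix.smul_kronecker, Matrix.smul_mulVec,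
      dotProduct_smul, smul_eq_mul]
  have hext : ∃ t : F, t ≠ 0 ∧ t * t ≠ 1 :=
    (excl_three (F := F) le_rfl (fun h => by omega) h2).resolve_left (by omega)
  have hno : ∀ u v : Fin 4 → F, QB u = 0 → QB v = 0 → QuadraticMap.polar ⇑QB u v = 0 → u ≠ 0 →
      ∃ d : F, v = d • u := fun u v hu hv huv hu0 =>
    excl_four hf₂ hf₂m one_ne_zero rfl (fun x => by rw [one_smul]; exact hQB x) hu hv huv hu0
  have mk : ∀ M : Subgroup (CfsgLib.Orth.Grp Q₀), M ≤ Cfsg.Omega F ⇑Q₀ →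
      (∀ g, g ∈ Cfsg.Omega F ⇑Q₀ → Tens (val g) → g ∈ M) → Hyp QA QB JA JB Q₀ M := fun M hle ht =>
    { gA := gA
      gB := gB
      polar := hpol0
      cardA := Fintype.card_fin 3
      cardB := Fintype.card_fin 4
      ext := hext
      noPlane := hno
      le := hle
      tens := ht }
  refine ⟨lt_of_le_of_ne inf_le_right fun hh => ?_, fun K hK hK' => ?_⟩
  · obtain ⟨g, hg, hnt⟩ := (mk _ le_rfl fun g hg _ => hg).exists_not_tens
    refine hnt ((hkr g.1).1 ?_)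
    have := (homg g.1).2 (Subgroup.mem_map_of_mem _ hg)
    rw [← hh] at this
    exact this.1
  · have H := mk ((K.comap φ.toMonoidHom).comap (Cfsg.isometryGroup F ⇑Q₀).subtype)
      (fun g hg => (Subgroup.mem_map_iff_mem (Subgroup.subtype_injective _)).1 ((homg g.1).1 (hK' hg)))
      fun g hg ht => hK ⟨(hkr g.1).2 ht, (homg g.1).2 (Subgroup.mem_map_of_mem _ hg)⟩
    rcases H.dichotomy with h | h
    · refine Or.inl (le_antisymm (fun y hy => ?_) hK)
      obtain ⟨g, rfl⟩ := φ.surjective y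
      obtain ⟨g₀, -, rfl⟩ := (homg g).1 (hK' hy)
      exact ⟨(hkr _).2 (h g₀ hy), hK' hy⟩
    · refine Or.inr (le_antisymm hK' fun y hy => ?_)
      obtain ⟨g, rfl⟩ := φ.surjective y
      obtain ⟨g₀, hg₀, rfl⟩ := (homg g).1 hy
      have : g₀ ∈ (K.comap φ.toMonoidHom).comap (Cfsg.isometryGroup F ⇑Q₀).subtype := h ▸ hg₀
      exact this

end CfsgLib.Classical.TensorOrthFour
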