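import Cfsg.Agent.Lib.Classical.TensorOrth.Algebra
import Cfsg.Agent.Lib.Classical.TensorSymp.Gen
import Cfsg.Agent.Lib.Classical.OrthOverfieldU

set_option autoImplicit false
set_option linter.unusedSectionVars false

/-!
The product of a three-dimensional orthogonal space and a four-dimensional one of minus type: the setting,
hyperbolic frames of the two factors and contractions.
-/

namespace CfsgLib.Classical.TensorOrthFour

open Matrix CfsgLib.Classical.TensorMax CfsgLib.Orth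
open CfsgLib.Classical.TensorSymp (adj ten kc_mulVec kron_mulVec_ten ten_dot vecMul_kr ten_add_left ten_add_right
  ten_sub_left ten_sub_right ten_smul_left ten_smul_right single_eq_ten)
open CfsgLib.Classical.TensorOrth (Gram rk)
open scoped MatrixGroups Kronecker

variable {F : Type*} [Field F] {α β : Type} [Fintype α] [DecidableEq α] [Fintype β] [DecidableEq β]

/-- The underlying matrix of an isometry. -/
abbrev val {γ : Type} [Fintype γ] [DecidableEq γ] {Q : QuadraticForm F (γ → F)} (g : Grp Q) : Matrix γ γ F :=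
  (g : GL γ F).1

/-- The setting. -/
structure Hyp (QA : QuadraticForm F (α → F)) (QB : QuadraticForm F (β → F)) (JA : Matrix α α F)
    (JB : Matrix β β F) (Q : QuadraticForm F (α × β → F)) (M : Subgroup (Grp Q)) : Prop where
  gA : Gram QA JA
  gB : Gram QB JB
  polar : ∀ x y, QuadraticMap.polar ⇑Q x y = x ⬝ᵥ (JA ⊗ₖ JB) *ᵥ y
  cardA : Fintype.card α = 3
  cardB : Fintype.card β = 4
  ext : ∃ t : F, t ≠ 0 ∧ t * t ≠ 1
  noPlane : ∀ u v : β → F, QB u = 0 → QB v = 0 → QuadraticMap.polar ⇑QB u v = 0 → u ≠ 0 →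
    ∃ c : F, v = c • u
  le : M ≤ Cfsg.Omega F ⇑Q
  tens : ∀ g : Grp Q, g ∈ Cfsg.Omega F ⇑Q → Tens (val g) → g ∈ M

/-- The contraction with a vector of the second factor. -/
def ctr (JB : Matrix β β F) (q : β → F) (x : α × β → F) : α → F := kr α (JB *ᵥ q) *ᵥ x

/-- A hyperbolic pair and an orthogonal basis of its orthogonal. -/
structure FrameB (QB : QuadraticForm F (β → F)) (w z v₁ v₂ : β → F) : Prop where
  qw : QB w = 0
  qz : QB z = 0
  wz : QuadraticMap.polar ⇑QB w z = 1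
  w1 : QuadraticMap.polar ⇑QB w v₁ = 0
  w2 : QuadraticMap.polar ⇑QB w v₂ = 0
  z1 : QuadraticMap.polar ⇑QB z v₁ = 0
  z2 : QuadraticMap.polar ⇑QB z v₂ = 0
  v12 : QuadraticMap.polar ⇑QB v₁ v₂ = 0
  q1 : QB v₁ ≠ 0
  q2 : QB v₂ ≠ 0

/-- A hyperbolic pair and a vector of its orthogonal. -/
structure FrameA (QA : QuadraticForm F (α → F)) (a₀ a₁ a₂ : α → F) : Prop where
  q0 : QA a₀ = 0
  q2 : QA a₂ = 0
  p02 : QuadraticMap.polar ⇑QA a₀ a₂ = 1
  p01 : QuadraticMap.polar ⇑QA a₀ a₁ = 0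
  p21 : QuadraticMap.polar ⇑QA a₂ a₁ = 0
  q1 : QA a₁ ≠ 0

theorem FrameB.swap {QB : QuadraticForm F (β → F)} {w z v₁ v₂ : β → F} (hf : FrameB QB w z v₁ v₂) :
    FrameB QB z w v₁ v₂ :=
  ⟨hf.qz, hf.qw, by rw [b_comm]; exact hf.wz, hf.z1, hf.z2, hf.w1, hf.w2, hf.v12, hf.q1, hf.q2⟩

theorem FrameB.turn {QB : QuadraticForm F (β → F)} {w z v₁ v₂ : β → F} (hf : FrameB QB w z v₁ v₂) :
    FrameB QB w z v₂ v₁ :=
  ⟨hf.qw, hf.qz, hf.wz, hf.w2, hf.w1, hf.z2, hf.z1, by rw [b_comm]; exact hf.v12, hf.q2, hf.q1⟩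

theorem FrameB.w_ne {QB : QuadraticForm F (β → F)} {w z v₁ v₂ : β → F} (hf : FrameB QB w z v₁ v₂) : w ≠ 0 :=
  ne_zero_of_b (Q := QB) (y := z) (by rw [hf.wz]; exact one_ne_zero)

theorem FrameA.swap {QA : QuadraticForm F (α → F)} {a₀ a₁ a₂ : α → F} (hf : FrameA QA a₀ a₁ a₂) :
    FrameA QA a₂ a₁ a₀ :=
  ⟨hf.q2, hf.q0, by rw [b_comm]; exact hf.p02, hf.p21, hf.p01, hf.q1⟩

theorem FrameA.a0_ne {QA : QuadraticForm F (α → F)} {a₀ a₁ a₂ : α → F} (hf : FrameA QA a₀ a₁ a₂) : a₀ ≠ 0 :=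
  ne_zero_of_b (Q := QA) (y := a₂) (by rw [hf.p02]; exact one_ne_zero)

section ctr

variable (JB : Matrix β β F) (q : β → F)

theorem ctr_add (x y : α × β → F) : ctr JB q (x + y) = ctr JB q x + ctr JB q y := Matrix.mulVec_add _ _ _

theorem ctr_sub (x y : α × β → F) : ctr JB q (x - y) = ctr JB q x - ctr JB q y := Matrix.mulVec_sub _ _ _

theorem ctr_smul (c : F) (x : α × β → F) : ctr JB q (c • x) = c • ctr JB q x := Matrix.mulVec_smul _ _ _

theorem ten_ctr (p : β → F) (x : α × β → F) :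
    ten (ctr JB q x) p = ((1 : Matrix α α F) ⊗ₖ Matrix.vecMulVec p (JB *ᵥ q)) *ᵥ x := by
  rw [← kc_mul_kr, ← Matrix.mulVec_mulVec, kc_mulVec]
  rfl

end ctr

namespace Hyp

variable [Finite F] {QA : QuadraticForm F (α → F)} {QB : QuadraticForm F (β → F)} {JA : Matrix α α F}
  {JB : Matrix β β F} {Q : QuadraticForm F (α × β → F)} {M : Subgroup (Grp Q)} (H : Hyp QA QB JA JB Q M)
include H

theorem two : (2 : F) ≠ 0 := H.gA.two

theorem nonempty_left : Nonempty α := Fintype.card_pos_iff.1 (by rw [H.cardA]; omega)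

theorem nonempty_right : Nonempty β := Fintype.card_pos_iff.1 (by rw [H.cardB]; omega)

theorem dimA : Module.finrank F (α → F) = 3 := by rw [Module.finrank_pi, H.cardA]

theorem dimB : Module.finrank F (β → F) = 4 := by rw [Module.finrank_pi, H.cardB]

theorem dim : Module.finrank F (α × β → F) = 12 := by
  rw [Module.finrank_pi, Fintype.card_prod, H.cardA, H.cardB]

theorem five_le_dim : 5 ≤ Module.finrank F (α × β → F) := by rw [H.dim]; omega

theorem lin : TensorOrth.Lin QA JA fun _ => True where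
  g := H.gA
  three := by rw [H.cardA]
  excl3 := Or.inr H.ext
  add _ _ := trivial
  smul _ _ := trivial
  conj _ _ _ := trivial

theorem polar_ten (a a' : α → F) (b b' : β → F) : QuadraticMap.polar ⇑Q (ten a b) (ten a' b') =
    QuadraticMap.polar ⇑QA a a' * QuadraticMap.polar ⇑QB b b' := by
  rw [H.polar, kron_mulVec_ten, ten_dot, H.gA.pol, H.gB.pol]

theorem q_ten (a : α → F) (b : β → F) : Q (ten a b) = 2 * QA a * QB b := by
  have := H.polar_ten a a b b
  rw [b_self, b_self, b_self] at this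
  refine mul_left_cancel₀ H.two ?_
  linear_combination this

theorem nondeg : Nondeg Q := by
  intro x hx
  have hd : IsUnit (JA ⊗ₖ JB).det := by
    rw [Matrix.det_kronecker]
    exact (H.gA.isUnit_det.pow _).mul (H.gB.isUnit_det.pow _)
  have h0 : x ᵥ* (JA ⊗ₖ JB) = 0 := by
    ext p
    have := hx (Pi.single p 1)
    rw [H.polar, Matrix.dotProduct_mulVec, dotProduct_single, mul_one] at this
    exact this
  have := congrArg (· ᵥ* (JA ⊗ₖ JB)⁻¹) h0
  simpa [Matrix.vecMul_vecMul, Matrix.mul_nonsing_inv _ hd] using this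

theorem polar_ctr (x : α × β → F) (a : α → F) (b : β → F) :
    QuadraticMap.polar ⇑Q x (ten a b) = QuadraticMap.polar ⇑QA (ctr JB b x) a := by
  rw [H.polar, kron_mulVec_ten, CfsgLib.Orth.b_comm, ← H.gA.dot_polar, ← vecMul_kr, ctr,
    Matrix.dotProduct_mulVec, dotProduct_comm]

theorem ctr_ten (q : β → F) (a : α → F) (b : β → F) :
    ctr JB q (ten a b) = QuadraticMap.polar ⇑QB q b • a := by
  rw [ctr, ← kc_mulVec, Matrix.mulVec_mulVec, kr_mul_kc, Matrix.smul_mulVec, Matrix.one_mulVec, H.gB.dot_polar]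

/-- Singular vectors of the second factor which are orthogonal are proportional, so a hyperbolic pair has
an anisotropic orthogonal. -/
theorem aniso_of_perp {w z y : β → F} (qw : QB w = 0) (wz : QuadraticMap.polar ⇑QB w z = 1)
    (hw : QuadraticMap.polar ⇑QB w y = 0) (hz : QuadraticMap.polar ⇑QB z y = 0) (hy : y ≠ 0) : QB y ≠ 0 := by
  intro h
  obtain ⟨c, rfl⟩ := H.noPlane w y qw h hw (ne_zero_of_b (by rw [wz]; exact one_ne_zero))
  rw [b_smul_right, b_comm z w, wz, mul_one] at hz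
  exact hy (by rw [hz, zero_smul])

/-- Every singular vector starts a frame, through any anisotropic vector orthogonal to a pair. -/
theorem exists_frame_pair {w z : β → F} (qw : QB w = 0) (qz : QB z = 0) (wz : QuadraticMap.polar ⇑QB w z = 1) :
    ∃ v₁ v₂, FrameB QB w z v₁ v₂ := by
  classical
  have key : ∀ s : Finset (β → F), s.card ≤ 3 →
      ∃ y, y ≠ 0 ∧ ∀ x ∈ s, QuadraticMap.polar ⇑QB x y = 0 := fun s hs => by
    obtain ⟨y, hy, hy0⟩ := (orth QB (Submodule.span F (s : Set (β → F)))).exists_mem_ne_zero_of_ne_bot fun e => by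
      have h := finrank_orth_span H.gB.nd s
      rw [e, finrank_bot, H.dimB] at h
      omega
    exact ⟨y, hy0, fun x hx => mem_orth_span.1 hy x (by simpa using hx)⟩
  obtain ⟨v₁, h₁, h₁'⟩ := key {w, z} (Finset.card_le_two.trans (by omega))
  have q1 := H.aniso_of_perp qw wz (h₁' w (by simp)) (h₁' z (by simp)) h₁
  obtain ⟨v₂, h₂, h₂'⟩ := key {w, z, v₁} Finset.card_le_three
  exact ⟨v₁, v₂, qw, qz, wz, h₁' w (by simp), h₂' w (by simp), h₁' z (by simp), h₂' z (by simp),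
    h₂' v₁ (by simp), q1, H.aniso_of_perp qw wz (h₂' w (by simp)) (h₂' z (by simp)) h₂⟩

theorem exists_frameB {w : β → F} (qw : QB w = 0) (hw : w ≠ 0) : ∃ z v₁ v₂, FrameB QB w z v₁ v₂ := by
  obtain ⟨z, qz, wz⟩ := exists_partner H.gB.nd qw hw
  obtain ⟨v₁, v₂, hf⟩ := H.exists_frame_pair qw qz wz
  exact ⟨z, v₁, v₂, hf⟩

theorem exists_singB : ∃ w : β → F, QB w = 0 ∧ w ≠ 0 := by
  obtain ⟨u, -, h0, h1⟩ := exists_singular (Q := QB) (U := (⊤ : Submodule F (β → F)))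
    (by rw [finrank_top, H.dimB]; omega)
  exact ⟨u, h1, h0⟩

theorem exists_frameA {u : α → F} (hu : QA u = 0) (hu0 : u ≠ 0) : ∃ a₁ a₂, FrameA QA u a₁ a₂ := by
  classical
  obtain ⟨f, hf, huf⟩ := exists_partner H.gA.nd hu hu0
  obtain ⟨y, hy, hy0⟩ := (orth QA (Submodule.span F (({u, f} : Finset (α → F)) : Set (α → F)))).exists_mem_ne_zero_of_ne_bot
    fun e => by
      have h := finrank_orth_span H.gA.nd ({u, f} : Finset (α → F))
      have := (Finset.card_le_two : ({u, f} : Finset (α → F)).card ≤ 2)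
      rw [e, finrank_bot, H.dimA] at h
      omega
  have h1 : QuadraticMap.polar ⇑QA u y = 0 := mem_orth_span.1 hy u (by simp)
  have h2 : QuadraticMap.polar ⇑QA f y = 0 := mem_orth_span.1 hy f (by simp)
  refine ⟨y, f, hu, hf, huf, h1, h2, fun q0 => ?_⟩
  have hli : LinearIndependent F ![u, y] := (LinearIndependent.pair_iff' hu0).2 fun c hc => hy0 (by
    rw [← hc, b_smul_right, b_comm f u, huf, mul_one] at h2
    rw [← hc, h2, zero_smul])
  have hsing : ∀ v ∈ Submodule.span F ({u, y} : Set (α → F)), QA v = 0 := fun v hv => by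
    obtain ⟨c, d, rfl⟩ := Submodule.mem_span_pair.1 hv
    rw [q_add, q_smul, q_smul, hu, q0, b_smul_left, b_smul_right, h1]
    ring
  have hdim := two_mul_finrank_le H.gA.nd (le_orth_of_singular hsing)
  have := finrank_span_eq_card hli
  rw [Matrix.range_cons_cons_empty, Fintype.card_fin] at this
  rw [this, H.dimA] at hdim
  omega

theorem resolveB {w z v₁ v₂ : β → F} (hf : FrameB QB w z v₁ v₂) :
    (1 : Matrix β β F) = Matrix.vecMulVec w (JB *ᵥ z) + Matrix.vecMulVec z (JB *ᵥ w) +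
      (2 * QB v₁)⁻¹ • Matrix.vecMulVec v₁ (JB *ᵥ v₁) + (2 * QB v₂)⁻¹ • Matrix.vecMulVec v₂ (JB *ᵥ v₂) := by
  have e1 := mul_ne_zero H.two hf.q1
  have e2 := mul_ne_zero H.two hf.q2
  have hw := hf.w1; have hw2 := hf.w2; have hz1 := hf.z1; have hz2 := hf.z2
  have zw : QuadraticMap.polar ⇑QB z w = 1 := by rw [b_comm]; exact hf.wz
  have bs : ∀ v, QuadraticMap.polar ⇑QB v v = 2 * QB v := b_self
  have hli : LinearIndependent F ![w, z, v₁, v₂] := by
    rw [Fintype.linearIndependent_iff]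
    intro c hc
    simp only [Fin.sum_univ_four, Matrix.cons_val_zero, Matrix.cons_val_one, Matrix.cons_val] at hc
    have k1 := congrArg (QuadraticMap.polar ⇑QB z) hc
    have k2 := congrArg (QuadraticMap.polar ⇑QB w) hc
    have k3 := congrArg (QuadraticMap.polar ⇑QB v₁) hc
    have k4 := congrArg (QuadraticMap.polar ⇑QB v₂) hc
    simp only [b_add_right, b_smul_right, b_zero_right, bs, hf.qw, hf.qz, hf.wz, zw, hw, hw2, hz1, hz2, hf.v12,
      b_comm v₁ w, b_comm v₁ z, b_comm v₂ w, b_comm v₂ z, b_comm v₂ v₁, mul_zero, mul_one, add_zero, zero_add,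
      mul_eq_zero] at k1 k2 k3 k4
    intro i
    fin_cases i
    · exact k1
    · exact k2
    · exact k3.resolve_right (by rw [← mul_eq_zero]; exact e1)
    · exact k4.resolve_right (by rw [← mul_eq_zero]; exact e2)
  have hspan := hli.span_eq_top_of_card_eq_finrank (by rw [Fintype.card_fin, H.dimB])
  refine Matrix.ext_iff_mulVec.2 fun x => ?_
  have hx : x ∈ Submodule.span F (Set.range ![w, z, v₁, v₂]) := hspan ▸ Submodule.mem_top
  obtain ⟨c, rfl⟩ := (Submodule.mem_span_range_iff_exists_fun F).1 hx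
  simp only [Fin.sum_univ_four, Matrix.cons_val_zero, Matrix.cons_val_one, Matrix.cons_val, Matrix.one_mulVec,
    Matrix.add_mulVec, Matrix.smul_mulVec, Matrix.vecMulVec_mulVec, op_smul_eq_smul, H.gB.dot_polar, b_add_right,
    b_smul_right, bs, hf.qw, hf.qz, hf.wz, zw, hw, hw2, hz1, hz2, hf.v12, b_comm v₁ w, b_comm v₁ z, b_comm v₂ w,
    b_comm v₂ z, b_comm v₂ v₁]
  have := H.two
  have := hf.q1
  have := hf.q2
  match_scalars <;> field_simp <;> ring

/-- The expansion in a frame. -/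
theorem expand {w z v₁ v₂ : β → F} (hf : FrameB QB w z v₁ v₂) (x : α × β → F) :
    x = ten (ctr JB z x) w + ten (ctr JB w x) z + (2 * QB v₁)⁻¹ • ten (ctr JB v₁ x) v₁ +
      (2 * QB v₂)⁻¹ • ten (ctr JB v₂ x) v₂ := by
  rw [ten_ctr, ten_ctr, ten_ctr, ten_ctr, ← Matrix.smul_mulVec, ← Matrix.smul_mulVec, ← Matrix.add_mulVec,
    ← Matrix.add_mulVec, ← Matrix.add_mulVec, ← Matrix.kronecker_smul, ← Matrix.kronecker_smul,
    ← Matrix.kronecker_add, ← Matrix.kronecker_add, ← Matrix.kronecker_add, ← H.resolveB hf,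
    Matrix.one_kronecker_one, Matrix.one_mulVec]

theorem ext_frame {w z v₁ v₂ : β → F} (hf : FrameB QB w z v₁ v₂) {X Y : Matrix (α × β) (α × β) F}
    (hw : ∀ a, X *ᵥ ten a w = Y *ᵥ ten a w) (hz : ∀ a, X *ᵥ ten a z = Y *ᵥ ten a z)
    (h1 : ∀ a, X *ᵥ ten a v₁ = Y *ᵥ ten a v₁) (h2 : ∀ a, X *ᵥ ten a v₂ = Y *ᵥ ten a v₂) : X = Y := by
  refine Matrix.ext_iff_mulVec.2 fun x => ?_
  rw [H.expand hf x]
  simp only [Matrix.mulVec_add, Matrix.mulVec_smul, hw, hz, h1, h2]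

theorem ext_grp {w z v₁ v₂ : β → F} (hf : FrameB QB w z v₁ v₂) {g h : Grp Q}
    (hw : ∀ a, ap g (ten a w) = ap h (ten a w)) (hz : ∀ a, ap g (ten a z) = ap h (ten a z))
    (h1 : ∀ a, ap g (ten a v₁) = ap h (ten a v₁)) (h2 : ∀ a, ap g (ten a v₂) = ap h (ten a v₂)) : g = h :=
  Subtype.ext (Units.ext (H.ext_frame hf hw hz h1 h2))

/-- The identity in a frame of the first factor. -/
theorem resolveA {a₀ a₁ a₂ : α → F} (hf : FrameA QA a₀ a₁ a₂) :
    (1 : Matrix α α F) = rk JA a₀ a₂ + rk JA a₂ a₀ + (2 * QA a₁)⁻¹ • rk JA a₁ a₁ := by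
  have e1 := mul_ne_zero H.two hf.q1
  have p20 : QuadraticMap.polar ⇑QA a₂ a₀ = 1 := by rw [b_comm]; exact hf.p02
  have hli : LinearIndependent F ![a₀, a₁, a₂] := by
    rw [Fintype.linearIndependent_iff]
    intro c hc
    simp only [Fin.sum_univ_three, Matrix.cons_val_zero, Matrix.cons_val_one, Matrix.cons_val] at hc
    have k1 := congrArg (QuadraticMap.polar ⇑QA a₂) hc
    have k2 := congrArg (QuadraticMap.polar ⇑QA a₁) hc
    have k3 := congrArg (QuadraticMap.polar ⇑QA a₀) hc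
    simp only [b_add_right, b_smul_right, b_zero_right, b_self, hf.q0, hf.q2, hf.p02, p20, hf.p01, hf.p21,
      b_comm a₁ a₀, b_comm a₁ a₂, mul_zero, mul_one, add_zero, zero_add, mul_eq_zero] at k1 k2 k3
    intro i
    fin_cases i
    · exact k1
    · exact k2.resolve_right (by rw [← mul_eq_zero]; exact e1)
    · exact k3
  have hspan := hli.span_eq_top_of_card_eq_finrank (by rw [Fintype.card_fin, H.dimA])
  refine Matrix.ext_iff_mulVec.2 fun x => ?_
  have hx : x ∈ Submodule.span F (Set.range ![a₀, a₁, a₂]) := hspan ▸ Submodule.mem_top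
  obtain ⟨c, rfl⟩ := (Submodule.mem_span_range_iff_exists_fun F).1 hx
  simp only [Fin.sum_univ_three, Matrix.cons_val_zero, Matrix.cons_val_one, Matrix.cons_val, Matrix.one_mulVec,
    Matrix.add_mulVec, Matrix.smul_mulVec, H.gA.rk_mulVec, b_add_right, b_smul_right, b_self, hf.q0, hf.q2, hf.p02,
    p20, hf.p01, hf.p21, b_comm a₁ a₀, b_comm a₁ a₂]
  have := H.two
  have := hf.q1
  have := hf.q2
  match_scalars <;> field_simp <;> ring

theorem iso_of_gram {X : Matrix (α × β) (α × β) F} (hX : Xᵀ * (JA ⊗ₖ JB) * X = JA ⊗ₖ JB) (z : α × β → F) :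
    Q (X *ᵥ z) = Q z := by
  refine mul_left_cancel₀ H.two ?_
  rw [← b_self, ← b_self, H.polar, H.polar]
  conv_rhs => rw [← hX]
  rw [← Matrix.mulVec_mulVec, ← Matrix.mulVec_mulVec, Matrix.dotProduct_mulVec z Xᵀ, Matrix.vecMul_transpose]

/-- A Kronecker product of two isometries. -/
theorem exists_kron (S : Grp QA) (T : Grp QB) :
    ∃ g : Grp Q, val g = val S ⊗ₖ val T := by
  obtain ⟨g, hg⟩ := exists_iso H.nondeg (val S ⊗ₖ val T).mulVecLin (fun x => H.iso_of_gram (by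
    rw [← Matrix.kroneckerMap_transpose, ← Matrix.mul_kronecker_mul, ← Matrix.mul_kronecker_mul, H.gA.sp_grp S,
      H.gB.sp_grp T]) x)
  exact ⟨g, Matrix.ext_iff_mulVec.2 hg⟩

theorem sq_mem (g : Grp Q) (hg : Tens (val (g * g))) : g * g ∈ M :=
  H.tens _ (sq_mem_omega H.nondeg H.five_le_dim g) hg

theorem ap_of_kron {g : Grp Q} {S : Grp QA} {T : Grp QB} (h : val g = val S ⊗ₖ val T) (a : α → F) (b : β → F) :
    ap g (ten a b) = ten (ap S a) (ap T b) := by
  show val g *ᵥ ten a b = _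
  rw [h, kron_mulVec_ten]
  rfl

theorem exists_sq (S : Grp QA) (T : Grp QB) :
    ∃ g ∈ M, ∀ a b, ap g (ten a b) = ten (ap (S * S) a) (ap (T * T) b) := by
  obtain ⟨g, hg⟩ := H.exists_kron S T
  refine ⟨g * g, H.sq_mem g ⟨val S * val S, val T * val T, ?_⟩, fun a b => by
    rw [ap_mul, H.ap_of_kron hg, H.ap_of_kron hg, ap_mul, ap_mul]⟩
  show val g * val g = (val S * val S) ⊗ₖ (val T * val T)
  rw [hg, Matrix.mul_kronecker_mul]

theorem siegel_eq_sq {γ : Type} [Fintype γ] [DecidableEq γ] {Q₁ : QuadraticForm F (γ → F)} (hB : Nondeg Q₁)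
    {u v : γ → F} {g : Grp Q₁} (hg : IsSiegel u v g) : ∃ s : Grp Q₁, s * s = g := by
  obtain ⟨s, hs⟩ := exists_siegel hB hg.1 (v := (2 : F)⁻¹ • v) (by rw [b_smul_right, hg.2.1, mul_zero])
  refine ⟨s, ?_⟩
  have := siegel_mul hs hs
  rw [← add_smul, ← two_mul, mul_inv_cancel₀ H.two, one_smul] at this
  exact siegel_unique this hg

theorem exists_elA {S : Grp QA} (hS : S ∈ El QA) :
    ∃ g ∈ M, ∀ a b, ap g (ten a b) = ten (ap S a) b := by
  induction hS using Subgroup.closure_induction with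
  | mem g hg =>
    obtain ⟨u, v, h⟩ := hg
    obtain ⟨s, rfl⟩ := H.siegel_eq_sq H.gA.nd h
    simpa using H.exists_sq s 1
  | one => exact ⟨1, M.one_mem, fun a b => by simp⟩
  | mul g h _ _ hg hh =>
    obtain ⟨x, hx, ex⟩ := hg
    obtain ⟨y, hy, ey⟩ := hh
    exact ⟨x * y, M.mul_mem hx hy, fun a b => by rw [ap_mul, ey, ex, ap_mul]⟩
  | inv g _ hg =>
    obtain ⟨x, hx, ex⟩ := hg
    exact ⟨x⁻¹, M.inv_mem hx, fun a b => ap_inj x (by rw [ap_ap_inv, ex, ap_ap_inv])⟩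

theorem exists_elB {T : Grp QB} (hT : T ∈ El QB) :
    ∃ g ∈ M, ∀ a b, ap g (ten a b) = ten a (ap T b) := by
  induction hT using Subgroup.closure_induction with
  | mem g hg =>
    obtain ⟨u, v, h⟩ := hg
    obtain ⟨s, rfl⟩ := H.siegel_eq_sq H.gB.nd h
    simpa using H.exists_sq 1 s
  | one => exact ⟨1, M.one_mem, fun a b => by simp⟩
  | mul g h _ _ hg hh =>
    obtain ⟨x, hx, ex⟩ := hg
    obtain ⟨y, hy, ey⟩ := hh
    exact ⟨x * y, M.mul_mem hx hy, fun a b => by rw [ap_mul, ey, ex, ap_mul]⟩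
  | inv g _ hg =>
    obtain ⟨x, hx, ex⟩ := hg
    exact ⟨x⁻¹, M.inv_mem hx, fun a b => ap_inj x (by rw [ap_ap_inv, ex, ap_ap_inv])⟩

/-- The scalings of a hyperbolic pair, squared. -/
theorem exists_scale {w z v₁ v₂ : β → F} (hf : FrameB QB w z v₁ v₂) {t : F} (ht : t ≠ 0) :
    ∃ g ∈ M, (∀ a, ap g (ten a w) = (t * t) • ten a w) ∧ (∀ a, ap g (ten a z) = (t * t)⁻¹ • ten a z) ∧
      (∀ a, ap g (ten a v₁) = ten a v₁) ∧ ∀ a, ap g (ten a v₂) = ten a v₂ := by
  obtain ⟨X, hX⟩ : ∃ X : Matrix β β F, X = t • Matrix.vecMulVec w (JB *ᵥ z) + t⁻¹ • Matrix.vecMulVec z (JB *ᵥ w) +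
      (2 * QB v₁)⁻¹ • Matrix.vecMulVec v₁ (JB *ᵥ v₁) + (2 * QB v₂)⁻¹ • Matrix.vecMulVec v₂ (JB *ᵥ v₂) := ⟨_, rfl⟩
  have e1 := mul_ne_zero H.two hf.q1
  have e2 := mul_ne_zero H.two hf.q2
  have zw : QuadraticMap.polar ⇑QB z w = 1 := by rw [b_comm]; exact hf.wz
  have hap : ∀ y, X *ᵥ y = (t * QuadraticMap.polar ⇑QB z y) • w + (t⁻¹ * QuadraticMap.polar ⇑QB w y) • z +
      ((2 * QB v₁)⁻¹ * QuadraticMap.polar ⇑QB v₁ y) • v₁ + ((2 * QB v₂)⁻¹ * QuadraticMap.polar ⇑QB v₂ y) • v₂ :=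
    fun y => by
      simp only [hX, Matrix.add_mulVec, Matrix.smul_mulVec, Matrix.vecMulVec_mulVec, op_smul_eq_smul,
        H.gB.dot_polar, smul_smul]
  have hx1 : X *ᵥ w = t • w := by
    rw [hap, zw, b_self_zero hf.qw, b_comm v₁ w, hf.w1, b_comm v₂ w, hf.w2]; simp
  have hx2 : X *ᵥ z = t⁻¹ • z := by
    rw [hap, hf.wz, b_self_zero hf.qz, b_comm v₁ z, hf.z1, b_comm v₂ z, hf.z2]; simp
  have hx3 : X *ᵥ v₁ = v₁ := by
    rw [hap, hf.z1, hf.w1, b_self, b_comm v₂ v₁, hf.v12, inv_mul_cancel₀ e1]; simp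
  have hx4 : X *ᵥ v₂ = v₂ := by
    rw [hap, hf.z2, hf.w2, b_self, hf.v12, inv_mul_cancel₀ e2]; simp
  obtain ⟨T, hT⟩ := exists_iso H.gB.nd X.mulVecLin fun y => by
    have ey : y = QuadraticMap.polar ⇑QB z y • w + QuadraticMap.polar ⇑QB w y • z +
        ((2 * QB v₁)⁻¹ * QuadraticMap.polar ⇑QB v₁ y) • v₁ +
        ((2 * QB v₂)⁻¹ * QuadraticMap.polar ⇑QB v₂ y) • v₂ := by
      conv_lhs => rw [← Matrix.one_mulVec y, H.resolveB hf]
      simp only [Matrix.add_mulVec, Matrix.smul_mulVec, Matrix.vecMulVec_mulVec, op_smul_eq_smul,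
        H.gB.dot_polar, smul_smul]
    rw [Matrix.mulVecLin_apply, hap]
    conv_rhs => rw [ey]
    simp only [q_add, q_smul, b_add_left, b_smul_left, b_smul_right, hf.qw, hf.qz, hf.wz, hf.w1, hf.w2, hf.z1,
      hf.z2, hf.v12]
    simp only [mul_zero, zero_mul, add_zero, zero_add]
    field_simp
  have aT : ∀ y, ap T y = X *ᵥ y := fun y => hT y
  obtain ⟨g, hg, e⟩ := H.exists_sq 1 T
  refine ⟨g, hg, fun a => ?_, fun a => ?_, fun a => ?_, fun a => ?_⟩
  · rw [e, mul_one, ap_one, ap_mul, aT w, hx1, ap_smul, aT w, hx1, smul_smul, ten_smul_right]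
  · rw [e, mul_one, ap_one, ap_mul, aT z, hx2, ap_smul, aT z, hx2, smul_smul, ten_smul_right, mul_inv]
  · rw [e, mul_one, ap_one, ap_mul, aT v₁, hx3, aT v₁, hx3]
  · rw [e, mul_one, ap_one, ap_mul, aT v₂, hx4, aT v₂, hx4]

end Hyp

end CfsgLib.Classical.TensorOrthFour
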